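import Mathlib
import Groth.Prelude.Def_TwC
import Groth.Agent.FpqcDescent.Props
import Groth.Agent.FpqcDescent.Sep
import Groth.Agent.UnibranchEtale.Scheme

/-!
Morphisms isomorphic to a disjoint union of copies of the base, and twisted constant schemes.
-/

set_option autoImplicit false
set_option linter.style.haveILetI false

universe u

open CategoryTheory AlgebraicGeometry Limits MorphismProperty TopologicalSpace

namespace Groth.Agent.TwConst

/-- `p : P ⟶ T` makes `P` a disjoint union of open copies of `T`. -/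
structure Split {P T : Scheme.{u}} (p : P ⟶ T) where
  I : Type u
  σ : I → (T ⟶ P)
  comp : ∀ i, σ i ≫ p = 𝟙 T
  isOpen : ∀ i, IsOpenImmersion (σ i)
  cover : ∀ z : P, ∃ i, z ∈ Set.range (σ i)
  disj : ∀ i j, i ≠ j → Disjoint (Set.range (σ i)) (Set.range (σ j))

/-- A constant scheme is split. -/
theorem split_of_iso {S T : Scheme.{u}} (f : T ⟶ S) (X : Over S) (I : Type u)
    (e : Red.bc f X ≅ TwC.const T I) : Nonempty (Split (pullback.snd X.hom f)) := by
  let φ : pullback X.hom f ≅ (∐ fun _ : I => T) := (Over.forget T).mapIso e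
  have hφ : φ.hom ≫ Sigma.desc (fun _ : I => 𝟙 T) = pullback.snd X.hom f := Over.w e.hom
  refine ⟨⟨I, fun i => Sigma.ι (fun _ : I => T) i ≫ φ.inv, fun i => ?_, fun i => inferInstance,
    fun z => ?_, fun i j h => ?_⟩⟩
  · rw [← hφ, Category.assoc, Iso.inv_hom_id_assoc, Sigma.ι_desc]
  · obtain ⟨⟨i, y⟩, hy⟩ := (sigmaMk (fun _ : I => T)).surjective (φ.hom z)
    refine ⟨i, y, ?_⟩
    rw [sigmaMk_mk] at hy
    rw [Scheme.Hom.comp_apply, hy, ← Scheme.Hom.comp_apply, φ.hom_inv_id]
    rfl
  · have hd := disjoint_opensRange_sigmaι (fun _ : I => T) i j h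
    rw [Set.disjoint_left]
    rintro _ ⟨a, rfl⟩ ⟨b, hb⟩
    rw [Scheme.Hom.comp_apply, Scheme.Hom.comp_apply] at hb
    have hb' := φ.inv.isOpenEmbedding.injective hb
    exact Set.disjoint_left.1 (TopologicalSpace.Opens.coe_disjoint.2 hd)
      (show Sigma.ι (fun _ : I => T) i a ∈ ((Sigma.ι (fun _ : I => T) i).opensRange : Set _) from ⟨a, rfl⟩)
      (show Sigma.ι (fun _ : I => T) i a ∈ ((Sigma.ι (fun _ : I => T) j).opensRange : Set _) from ⟨b, hb'⟩)

namespace Split

variable {P T : Scheme.{u}} {p : P ⟶ T} (s : Split p)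

theorem eq_of_mem {z : P} {i j : s.I} (hi : z ∈ Set.range (s.σ i)) (hj : z ∈ Set.range (s.σ j)) : i = j :=
  by_contra fun h => Set.disjoint_left.1 (s.disj i j h) hi hj

theorem apply_σ (i : s.I) (t : T) : p (s.σ i t) = t := by
  rw [← Scheme.Hom.comp_apply, s.comp]
  rfl

theorem isOpen_range (i : s.I) : IsOpen (Set.range (s.σ i)) :=
  haveI := s.isOpen i
  (s.σ i).isOpenEmbedding.isOpen_range

theorem isClosed_range (i : s.I) : IsClosed (Set.range (s.σ i)) := by
  rw [← isOpen_compl_iff, isOpen_iff_forall_mem_open]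
  intro z hz
  obtain ⟨j, hj⟩ := s.cover z
  exact ⟨_, fun w hw => Set.disjoint_right.1 (s.disj i j fun h => hz (h ▸ hj)) hw, s.isOpen_range j, hj⟩

include s in
theorem etale : Etale p := by
  rw [IsZariskiLocalAtSource.iff_of_iSup_eq_top (P := @Etale)
    (fun i => (⟨_, s.isOpen_range i⟩ : P.Opens))
    (eq_top_iff.2 fun z _ => TopologicalSpace.Opens.mem_iSup.2 (s.cover z))]
  intro i
  haveI := s.isOpen i
  let e := (s.σ i).isoOpensRange
  have he : e.hom ≫ (s.σ i).opensRange.ι = s.σ i := (s.σ i).isoOpensRange_hom_ι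
  change Etale ((s.σ i).opensRange.ι ≫ p)
  rw [← MorphismProperty.cancel_left_of_respectsIso @Etale e.hom, reassoc_of% he, s.comp]
  infer_instance

include s in
theorem isSeparated : IsSeparated p := by
  refine ⟨IsClosedImmersion.of_isPreimmersion _ ?_⟩
  have key : Set.range (pullback.diagonal p) = (⋃ (i : s.I) (j : s.I) (_ : i ≠ j),
      (pullback.fst p p) ⁻¹' Set.range (s.σ i) ∩ (pullback.snd p p) ⁻¹' Set.range (s.σ j))ᶜ := by
    ext z
    simp only [Set.mem_compl_iff, Set.mem_iUnion, not_exists]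
    constructor
    · rintro ⟨w, rfl⟩ i j hij ⟨h₁, h₂⟩
      rw [Set.mem_preimage, ← Scheme.Hom.comp_apply, pullback.diagonal_fst] at h₁
      rw [Set.mem_preimage, ← Scheme.Hom.comp_apply, pullback.diagonal_snd] at h₂
      exact hij (s.eq_of_mem h₁ h₂)
    · intro h
      obtain ⟨i, hi⟩ := s.cover (pullback.fst p p z)
      obtain ⟨j, hj⟩ := s.cover (pullback.snd p p z)
      obtain rfl : i = j := by_contra fun hij => h i j hij ⟨hi, hj⟩
      let W : (pullback p p).Opens :=
        ⟨(pullback.fst p p) ⁻¹' Set.range (s.σ i) ∩ (pullback.snd p p) ⁻¹' Set.range (s.σ i),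
          ((s.isOpen_range i).preimage (pullback.fst p p).continuous).inter
            ((s.isOpen_range i).preimage (pullback.snd p p).continuous)⟩
      haveI := s.isOpen i
      let a := IsOpenImmersion.lift (s.σ i) (W.ι ≫ pullback.fst p p) (by
        rintro _ ⟨w, rfl⟩
        exact w.2.1)
      let b := IsOpenImmersion.lift (s.σ i) (W.ι ≫ pullback.snd p p) (by
        rintro _ ⟨w, rfl⟩
        exact w.2.2)
      have ha : a ≫ s.σ i = W.ι ≫ pullback.fst p p := IsOpenImmersion.lift_fac _ _ _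
      have hb : b ≫ s.σ i = W.ι ≫ pullback.snd p p := IsOpenImmersion.lift_fac _ _ _
      have hab : a = b := by
        rw [← Category.comp_id a, ← Category.comp_id b, ← s.comp i, reassoc_of% ha, reassoc_of% hb,
          pullback.condition]
      have hW : W.ι = (a ≫ s.σ i) ≫ pullback.diagonal p := by
        apply pullback.hom_ext
        · rw [Category.assoc, pullback.diagonal_fst, Category.comp_id, ha]
        · rw [Category.assoc, pullback.diagonal_snd, Category.comp_id, hab, hb]
      refine ⟨(a ≫ s.σ i) ⟨z, hi, hj⟩, ?_⟩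
      rw [← Scheme.Hom.comp_apply, ← hW]
      rfl
  rw [key, isClosed_compl_iff]
  exact isOpen_iUnion fun i => isOpen_iUnion fun j => isOpen_iUnion fun _ =>
    ((s.isOpen_range i).preimage (pullback.fst p p).continuous).inter
      ((s.isOpen_range j).preimage (pullback.snd p p).continuous)

include s in
theorem existence : ValuativeCriterion.Existence p := by
  intro sq
  obtain ⟨i, hi⟩ := s.cover (sq.i₁ (IsLocalRing.closedPoint sq.K))
  haveI := s.isOpen i
  refine ⟨⟨⟨sq.i₂ ≫ s.σ i, ?_, ?_⟩⟩⟩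
  · let b := IsOpenImmersion.lift (s.σ i) sq.i₁ (by
      rintro _ ⟨w, rfl⟩
      rw [Subsingleton.elim w (IsLocalRing.closedPoint sq.K)]
      exact hi)
    have hb : b ≫ s.σ i = sq.i₁ := IsOpenImmersion.lift_fac _ _ _
    rw [← Category.assoc, ← sq.commSq.w, ← hb, Category.assoc b, s.comp, Category.comp_id]
  · rw [Category.assoc, s.comp, Category.comp_id]

include s in
/-- Closed subschemes quasi-compact over the base are finite. -/
theorem isFinite_comp {Z : Scheme.{u}} (z : Z ⟶ P) [IsClosedImmersion z] [QuasiCompact (z ≫ p)] :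
    IsFinite (z ≫ p) := by
  haveI := s.etale
  haveI := s.isSeparated
  haveI : LocallyQuasiFinite p := UnibranchEtale.locallyQuasiFinite_of_unramified p
  haveI : UniversallyClosed (z ≫ p) := by
    refine .of_valuativeCriterion _ fun sq => ?_
    obtain ⟨⟨⟨l, hl₁, hl₂⟩⟩⟩ := s.existence
      ⟨sq.R, sq.K, sq.i₁ ≫ z, sq.i₂, ⟨by rw [Category.assoc]; exact sq.commSq.w⟩⟩
    have hz : ValuativeCriterion.Existence z := by
      have h : UniversallyClosed z := inferInstance
      rw [UniversallyClosed.eq_valuativeCriterion] at h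
      exact h.1
    obtain ⟨⟨⟨l', hl₁', hl₂'⟩⟩⟩ := hz ⟨sq.R, sq.K, sq.i₁, l, ⟨hl₁.symm⟩⟩
    exact ⟨⟨⟨l', hl₁', by rw [← Category.assoc, hl₂', hl₂]⟩⟩⟩
  haveI : IsProper (z ≫ p) := ⟨⟩
  exact IsFinite.of_isProper_of_locallyQuasiFinite _

end Split

/-- An open immersion with closed range is a closed immersion. -/
theorem isClosedImmersion_ι {X : Scheme.{u}} (U : X.Opens) (h : IsClosed (U : Set X)) :
    IsClosedImmersion U.ι :=
  .of_isPreimmersion _ (by rwa [Scheme.Opens.range_ι])

/-- A property local on the target descends along a single fpqc covering morphism. -/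
theorem of_fpqc (P : MorphismProperty Scheme.{u}) [IsZariskiLocalAtTarget P]
    [P.DescendsAlong (@Surjective ⊓ @Flat ⊓ @QuasiCompact)]
    {Z S T : Scheme.{u}} (g : Z ⟶ S) (f : T ⟶ S) [Flat f]
    (hqc : ∀ V : S.Opens, IsAffineOpen V → ∃ W : T.Opens, IsCompact (W : Set T) ∧
      f.base '' (W : Set T) = (V : Set S))
    (h : P (pullback.snd g f)) : P g := by
  rw [IsZariskiLocalAtTarget.iff_of_iSup_eq_top (P := P) _ (iSup_affineOpens_eq_top S)]
  rintro ⟨V, hV⟩
  obtain ⟨W, hW, hfW⟩ := hqc V hV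
  have hle : Set.range (W.ι ≫ f) ⊆ Set.range V.ι := by
    rintro _ ⟨w, rfl⟩
    rw [Scheme.Opens.range_ι, ← hfW]
    exact ⟨w.1, w.2, rfl⟩
  let q : W.toScheme ⟶ V.toScheme := IsOpenImmersion.lift V.ι (W.ι ≫ f) hle
  have hq : q ≫ V.ι = W.ι ≫ f := IsOpenImmersion.lift_fac _ _ _
  haveI : IsAffine V.toScheme := hV
  have hqP : (@Surjective ⊓ @Flat ⊓ @QuasiCompact : MorphismProperty Scheme.{u}) q := by
    refine ⟨⟨⟨fun y => ?_⟩, ?_⟩, ?_⟩
    · obtain ⟨w, hw, he⟩ := hfW.ge y.2
      refine ⟨⟨w, hw⟩, V.ι.injective ?_⟩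
      rw [← Scheme.Hom.comp_apply, hq]
      exact he
    · haveI : Flat (q ≫ V.ι) := by rw [hq]; infer_instance
      exact MorphismProperty.of_postcomp (W := @Flat)
        (W' := MorphismProperty.monomorphisms Scheme.{u}) q V.ι (inferInstance : Mono V.ι)
        (inferInstanceAs (Flat (q ≫ V.ι)))
    · haveI : CompactSpace W.toScheme := isCompact_iff_compactSpace.mp hW
      exact (quasiCompact_iff_compactSpace q).2 inferInstance
  refine MorphismProperty.of_pullback_snd_of_descendsAlong (f := g ∣_ V) (g := q) hqP ?_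
  have h1 : IsPullback (pullback.fst (g ∣_ V) q ≫ (g ⁻¹ᵁ V).ι) (pullback.snd (g ∣_ V) q) g (W.ι ≫ f) := by
    rw [← hq]
    exact (IsPullback.of_hasPullback _ _).paste_horiz (isPullback_morphismRestrict g V).flip
  rw [← h1.isoPullback_hom_snd]
  refine (P.cancel_left_of_respectsIso _ _).mpr ?_
  refine (P.cancel_left_of_respectsIso (pullbackLeftPullbackSndIso g f W.ι).hom _).mp ?_
  rw [pullbackLeftPullbackSndIso_hom_snd]
  exact IsZariskiLocalAtTarget.of_isPullback (IsPullback.of_hasPullback _ W.ι) h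

/-- A property local on the target holds after base change if it does on an open cover. -/
theorem of_locally (P : MorphismProperty Scheme.{u}) [IsZariskiLocalAtTarget P]
    {Z S T : Scheme.{u}} (g : Z ⟶ S) (f : T ⟶ S)
    (h : ∀ t : T, ∃ U : T.Opens, t ∈ U ∧ P (pullback.snd g (U.ι ≫ f))) : P (pullback.snd g f) := by
  choose U hU hP using h
  rw [IsZariskiLocalAtTarget.iff_of_iSup_eq_top (P := P) U
    (eq_top_iff.2 fun t _ => TopologicalSpace.Opens.mem_iSup.2 ⟨t, hU t⟩)]
  intro t
  have h1 := (IsPullback.of_hasPullback g ((U t).ι ≫ f))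
  have h2 : IsPullback ((pullback.snd g f ⁻¹ᵁ U t).ι ≫ pullback.fst g f) (pullback.snd g f ∣_ U t) g ((U t).ι ≫ f) :=
    (isPullback_morphismRestrict (pullback.snd g f) (U t)).flip.paste_horiz (IsPullback.of_hasPullback g f)
  rw [← h2.isoPullback_hom_snd]
  exact (P.cancel_left_of_respectsIso _ _).mpr (hP t)

variable {S : Scheme.{u}} (X : Over S)

/-- Descent from the members trivialising a twisted constant scheme, fpqc. -/
theorem of_fpqc_twConst (hX : TwC.IsTwConst TwC.Topology.fpqc X) (P : MorphismProperty Scheme.{u})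
    [IsZariskiLocalAtTarget P] [P.DescendsAlong (@Surjective ⊓ @Flat ⊓ @QuasiCompact)]
    {Z : Scheme.{u}} (g : Z ⟶ S)
    (h : ∀ (T : Scheme.{u}) (f : T ⟶ S), Split (pullback.snd X.hom f) → P (pullback.snd g f)) : P g := by
  obtain ⟨T, f, hf, -, hqc, hloc⟩ := hX
  haveI := hf
  refine of_fpqc P g f hqc (of_locally P g f fun t => ?_)
  obtain ⟨U, hU, I, ⟨e⟩⟩ := hloc t
  exact ⟨U, hU, h _ _ (split_of_iso _ X I e).some⟩

/-- Descent from the members trivialising a twisted constant scheme, étale. -/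
theorem of_etale_twConst (hX : TwC.IsTwConst TwC.Topology.etale X) (P : MorphismProperty Scheme.{u})
    [IsZariskiLocalAtTarget P] [P.DescendsAlong (@Surjective ⊓ @Flat ⊓ @QuasiCompact)]
    {Z : Scheme.{u}} (g : Z ⟶ S)
    (h : ∀ (T : Scheme.{u}) (f : T ⟶ S), Etale f → Split (pullback.snd X.hom f) → P (pullback.snd g f)) :
    P g := by
  choose T f hf hs hT using hX
  let F : (∐ T) ⟶ S := Sigma.desc f
  haveI : ∀ s, Etale (f s) := hf
  have hFe : Etale F := IsZariskiLocalAtSource.sigmaDesc (P := @Etale) hf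
  haveI : Surjective F := ⟨fun s => by
    obtain ⟨t, ht⟩ := hs s
    refine ⟨Sigma.ι T s t, ?_⟩
    rw [← Scheme.Hom.comp_apply, Sigma.ι_desc]
    exact ht⟩
  haveI := hFe
  refine MorphismProperty.of_pullback_snd_of_descendsAlong
    (Q := @Surjective ⊓ @Flat ⊓ @LocallyOfFinitePresentation) (f := g) (g := F)
    ⟨⟨inferInstance, inferInstance⟩, inferInstance⟩ ?_
  rw [IsZariskiLocalAtTarget.iff_of_openCover (P := P) (sigmaOpenCover T)]
  intro s
  rw [Scheme.Cover.pullbackHom, ← pullbackLeftPullbackSndIso_hom_snd g F _]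
  refine (P.cancel_left_of_respectsIso _ _).mpr ?_
  change P (pullback.snd g (Sigma.ι T s ≫ F))
  rw [Sigma.ι_desc]
  obtain ⟨I, ⟨e⟩⟩ := hT s
  exact h _ _ (hf s) (split_of_iso _ X I e).some

theorem isSeparated (hX : TwC.IsTwConst TwC.Topology.etale X) : IsSeparated X.hom :=
  of_etale_twConst X hX @IsSeparated X.hom fun _ _ _ s => s.isSeparated

theorem etale (hX : TwC.IsTwConst TwC.Topology.etale X) : Etale X.hom :=
  of_etale_twConst X hX @Etale X.hom fun _ _ _ s => s.etale

/-- The base change of a closed subscheme into the split model. -/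
theorem isFinite_pullback_of_split {Z T : Scheme.{u}} (f : T ⟶ S) (z : Z ⟶ X.left) [IsClosedImmersion z]
    [QuasiCompact (z ≫ X.hom)] (s : Split (pullback.snd X.hom f)) :
    IsFinite (pullback.snd (z ≫ X.hom) f) := by
  let z' : pullback (z ≫ X.hom) f ⟶ pullback X.hom f :=
    pullback.map (z ≫ X.hom) f X.hom f z (𝟙 T) (𝟙 S) (by simp) (by simp)
  have h1 : pullback.fst (z ≫ X.hom) f ≫ z = z' ≫ pullback.fst X.hom f := (pullback.lift_fst _ _ _).symm
  have h2 : z' ≫ pullback.snd X.hom f = pullback.snd (z ≫ X.hom) f :=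
    (pullback.lift_snd _ _ _).trans (Category.comp_id _)
  have hsq : IsPullback z' (pullback.fst (z ≫ X.hom) f) (pullback.fst X.hom f) z :=
    IsPullback.of_right (h₁₂ := pullback.snd X.hom f) (v₁₁ := pullback.fst (z ≫ X.hom) f)
      (by rw [h2]; exact (IsPullback.of_hasPullback (z ≫ X.hom) f).flip) h1.symm
      (IsPullback.of_hasPullback X.hom f).flip
  haveI : IsClosedImmersion z' := MorphismProperty.of_isPullback (P := @IsClosedImmersion) hsq.flip inferInstance
  haveI : QuasiCompact (z' ≫ pullback.snd X.hom f) := by rw [h2]; infer_instance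
  rw [← h2]
  exact s.isFinite_comp z'

/-- Closed subschemes of twisted constant schemes which are quasi-compact over the base are finite. -/
theorem isFinite_of_isClosedImmersion (hX : TwC.IsTwConst TwC.Topology.fpqc X) {Z : Scheme.{u}}
    (z : Z ⟶ X.left) [IsClosedImmersion z] [QuasiCompact (z ≫ X.hom)] : IsFinite (z ≫ X.hom) :=
  of_fpqc_twConst X hX @IsFinite (z ≫ X.hom) fun _ f s => isFinite_pullback_of_split X f z s

/-- The étale version. -/
theorem isFinite_of_isClosedImmersion' (hX : TwC.IsTwConst TwC.Topology.etale X) {Z : Scheme.{u}}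
    (z : Z ⟶ X.left) [IsClosedImmersion z] [QuasiCompact (z ≫ X.hom)] : IsFinite (z ≫ X.hom) :=
  of_etale_twConst X hX @IsFinite (z ≫ X.hom) fun _ f _ s => isFinite_pullback_of_split X f z s

/-- Pullbacks of split morphisms are split, with the pulled back sheets. -/
theorem Split.exists_of_isPullback {P T P' T' : Scheme.{u}} {p : P ⟶ T} (s : Split p) {p' : P' ⟶ T'}
    {a : P' ⟶ P} {b : T' ⟶ T} (h : IsPullback a p' p b) :
    ∃ s' : Split p', ∀ j, ∃ i, s'.σ j ≫ a = b ≫ s.σ i := by
  have key : ∀ i, IsPullback b (h.lift (b ≫ s.σ i) (𝟙 T') (by rw [Category.assoc, s.comp, Category.comp_id, Category.id_comp]))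
      (s.σ i) a := fun i => by
    refine IsPullback.of_bot ?_ ?_ h
    · rw [h.lift_snd, s.comp]
      exact IsPullback.of_vert_isIso ⟨by rw [Category.comp_id, Category.id_comp]⟩
    · rw [h.lift_fst]
  refine ⟨⟨s.I, fun i => h.lift (b ≫ s.σ i) (𝟙 T') (by rw [Category.assoc, s.comp, Category.comp_id, Category.id_comp]),
    fun i => h.lift_snd _ _ _, fun i => ?_, fun z => ?_, fun i j hij => ?_⟩, fun i => ⟨i, h.lift_fst _ _ _⟩⟩
  · haveI := s.isOpen i
    exact MorphismProperty.of_isPullback (P := @IsOpenImmersion) (key i) inferInstance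
  · obtain ⟨i, t, ht⟩ := s.cover (a z)
    obtain ⟨w, -, hw⟩ := Scheme.Pullback.exists_preimage_pullback (f := s.σ i) (g := a) t z ht
    refine ⟨i, (key i).isoPullback.inv w, ?_⟩
    rw [← Scheme.Hom.comp_apply, (key i).isoPullback_inv_snd]
    exact hw
  · rw [Set.disjoint_left]
    rintro _ ⟨x, rfl⟩ ⟨y, hy⟩
    have h1 := congrArg a hy
    rw [← Scheme.Hom.comp_apply, ← Scheme.Hom.comp_apply, h.lift_fst, h.lift_fst, Scheme.Hom.comp_apply,
      Scheme.Hom.comp_apply] at h1
    exact Set.disjoint_left.1 (s.disj i j hij) ⟨_, rfl⟩ ⟨_, h1⟩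

/-- Pullbacks of split morphisms are split. -/
theorem Split.nonempty_of_isPullback {P T P' T' : Scheme.{u}} {p : P ⟶ T} (s : Split p) {p' : P' ⟶ T'}
    {a : P' ⟶ P} {b : T' ⟶ T} (h : IsPullback a p' p b) : Nonempty (Split p') :=
  let ⟨s', _⟩ := s.exists_of_isPullback h
  ⟨s'⟩

/-- Being twisted constant for the étale topology in terms of split morphisms. -/
theorem exists_split (hX : TwC.IsTwConst TwC.Topology.etale X) (t : S) :
    ∃ (T : Scheme.{u}) (f : T ⟶ S), Etale f ∧ t ∈ Set.range f ∧ Nonempty (Split (pullback.snd X.hom f)) := by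
  obtain ⟨T, f, hf, ht, I, ⟨e⟩⟩ := hX t
  exact ⟨T, f, hf, ht, split_of_iso f X I e⟩

end Groth.Agent.TwConst
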