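import Mathlib
import Groth.Agent.TwConst.Basic

/-!
Base change of twisted constant schemes.
-/

set_option autoImplicit false
set_option linter.style.haveILetI false

universe u

open CategoryTheory AlgebraicGeometry Limits MorphismProperty TopologicalSpace

namespace Groth.Agent.TwConst

/-- A split base change is isomorphic to a constant scheme. -/
theorem iso_of_split {S T : Scheme.{u}} (f : T ⟶ S) (X : Over S) (s : Split (pullback.snd X.hom f)) :
    Nonempty (Red.bc f X ≅ TwC.const T s.I) := by
  haveI : ∀ i, IsOpenImmersion (s.σ i) := s.isOpen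
  haveI : IsOpenImmersion (Sigma.desc s.σ) := isOpenImmersion_sigmaDesc _ s.σ fun i j h => by
    simpa [Function.onFun, Set.disjoint_iff_inter_eq_empty] using
      Set.disjoint_iff_inter_eq_empty.1 (s.disj i j h)
  haveI : Surjective (Sigma.desc s.σ) := ⟨fun z => by
    obtain ⟨i, t, ht⟩ := s.cover z
    refine ⟨Sigma.ι (fun _ : s.I => T) i t, ?_⟩
    rw [← Scheme.Hom.comp_apply, Sigma.ι_desc]
    exact ht⟩
  haveI : IsIso (Sigma.desc s.σ) :=
    (isIso_iff_isOpenImmersion_and_surjective _).2 ⟨inferInstance, inferInstance⟩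
  let e : (∐ fun _ : s.I => T) ≅ pullback X.hom f := asIso (Sigma.desc s.σ)
  refine ⟨(Over.isoMk (f := TwC.const T s.I) (g := Red.bc f X) e (Sigma.hom_ext _ _ fun i => ?_)).symm⟩
  change Sigma.ι (fun _ : s.I => T) i ≫ Sigma.desc s.σ ≫ pullback.snd X.hom f =
    Sigma.ι (fun _ : s.I => T) i ≫ Sigma.desc fun _ : s.I => 𝟙 T
  rw [Sigma.ι_desc_assoc, Sigma.ι_desc, s.comp]

/-- Twisted constant for the étale topology is stable under base change. -/
theorem isTwConst_bc {S S' : Scheme.{u}} (g : S' ⟶ S) (X : Over S)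
    (hX : TwC.IsTwConst TwC.Topology.etale X) : TwC.IsTwConst TwC.Topology.etale (Red.bc g X) := by
  intro t
  obtain ⟨T, f, hf, ⟨w, hw⟩, ⟨s⟩⟩ := exists_split X hX (g t)
  obtain ⟨z, -, hz⟩ := Scheme.Pullback.exists_preimage_pullback (f := f) (g := g) w t hw
  haveI := hf
  refine ⟨pullback f g, pullback.snd f g, inferInstance, ⟨z, hz⟩, ?_⟩
  let a : pullback (pullback.snd X.hom g) (pullback.snd f g) ⟶ pullback X.hom f :=
    pullback.lift (pullback.fst _ _ ≫ pullback.fst X.hom g) (pullback.snd _ _ ≫ pullback.fst f g) (by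
      rw [Category.assoc, Category.assoc, pullback.condition, pullback.condition_assoc,
        ← pullback.condition (f := f) (g := g)])
  have hsq : IsPullback a (pullback.snd (pullback.snd X.hom g) (pullback.snd f g))
      (pullback.snd X.hom f) (pullback.fst f g) := by
    refine IsPullback.of_right (h₁₂ := pullback.fst X.hom f) (v₁₃ := X.hom) (h₂₂ := f) ?_
      (pullback.lift_snd _ _ _) (IsPullback.of_hasPullback X.hom f)
    rw [pullback.lift_fst, pullback.condition (f := f) (g := g)]
    exact (IsPullback.of_hasPullback _ _).paste_horiz (IsPullback.of_hasPullback X.hom g)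
  obtain ⟨s'⟩ := s.nonempty_of_isPullback hsq
  exact ⟨s'.I, iso_of_split (pullback.snd f g) (Red.bc g X) s'⟩

end Groth.Agent.TwConst
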