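import Mathlib
import Groth.Agent.TwConst.Basic
import Groth.Agent.UnibranchEtale.Components
import Groth.Agent.EtaleSections.Finite

/-!
Structure of twisted constant schemes over geometrically unibranch irreducible bases.
-/

set_option autoImplicit false
set_option linter.style.haveILetI false

universe u

open CategoryTheory AlgebraicGeometry Limits MorphismProperty TopologicalSpace

namespace Groth.Agent.TwConst

variable {S : Scheme.{u}}

/-- Only finitely many points of a field with prescribed image point in an étale scheme. -/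
theorem finite_points {Y : Scheme.{u}} (g : Y ⟶ S) [Etale g] (l : Y) (K : Type u) [Field K]
    (h : Spec (CommRingCat.of K) ⟶ S) :
    {k : Spec (CommRingCat.of K) ⟶ Y | k ≫ g = h ∧ k (IsLocalRing.closedPoint K) = l}.Finite := by
  obtain ⟨V, hV, A, hA, hlA, -, e⟩ := UnibranchEtale.exists_affine_chart g l ⊤ trivial
  haveI : IsAffine V.toScheme := hV
  haveI : IsAffine A.toScheme := hA
  by_cases hne : {k : Spec (CommRingCat.of K) ⟶ Y | k ≫ g = h ∧ k (IsLocalRing.closedPoint K) = l}.Nonempty
  swap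
  · rw [Set.not_nonempty_iff_eq_empty.1 hne]
    exact Set.finite_empty
  have hlift : ∀ k : Spec (CommRingCat.of K) ⟶ Y, k (IsLocalRing.closedPoint K) = l →
      Set.range k ⊆ Set.range A.ι := by
    rintro k hk _ ⟨w, rfl⟩
    rw [Scheme.Opens.range_ι, Subsingleton.elim w (IsLocalRing.closedPoint K), hk]
    exact hlA
  obtain ⟨k₀, hk₀, hk₀'⟩ := hne
  let h' : Spec (CommRingCat.of K) ⟶ V.toScheme :=
    IsOpenImmersion.lift A.ι k₀ (hlift k₀ hk₀') ≫ g.resLE V A e
  have hh' : h' ≫ V.ι = h := by
    rw [Category.assoc, Scheme.Hom.resLE_comp_ι, IsOpenImmersion.lift_fac_assoc, hk₀]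
  haveI : Etale (g.resLE V A e) := by
    haveI : Etale (g.resLE V A e ≫ V.ι) := by rw [Scheme.Hom.resLE_comp_ι]; infer_instance
    exact Etale.of_comp _ V.ι
  have hfin := EtaleSections.finite_sections_field K (pullback.snd (g.resLE V A e) h')
  rw [← Set.finite_coe_iff]
  refine Finite.of_injective
    (β := {s : Spec (CommRingCat.of K) ⟶ pullback (g.resLE V A e) h' // s ≫ pullback.snd _ _ = 𝟙 _})
    (fun k => ⟨pullback.lift (IsOpenImmersion.lift A.ι k.1 (hlift k.1 k.2.2)) (𝟙 _) (by
      rw [← cancel_mono V.ι, Category.assoc, Scheme.Hom.resLE_comp_ι, IsOpenImmersion.lift_fac_assoc,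
        k.2.1, Category.id_comp, hh']), pullback.lift_snd _ _ _⟩) fun k k' hk => Subtype.ext ?_
  have h3 := congrArg (fun s => s.1 ≫ pullback.fst _ _ ≫ A.ι) hk
  simpa [pullback.lift_fst_assoc] using h3

/-- Over a point, finitely many sheets pass over a given point. -/
theorem finite_sheets {Y T : Scheme.{u}} (g : Y ⟶ S) [Etale g] (f : T ⟶ S) (s : Split (pullback.snd g f))
    (w : T) (l : Y) : {i | pullback.fst g f (s.σ i w) = l}.Finite := by
  have hfin := finite_points g l (T.residueField w) (T.fromSpecResidueField w ≫ f)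
  refine Set.Finite.of_finite_image
    (f := fun i => T.fromSpecResidueField w ≫ s.σ i ≫ pullback.fst g f) (hfin.subset ?_) ?_
  · rintro _ ⟨i, hi, rfl⟩
    refine ⟨?_, ?_⟩
    · simp only [Category.assoc]
      rw [pullback.condition, ← Category.assoc (s.σ i), s.comp, Category.id_comp]
    · rw [Scheme.Hom.comp_apply, Scheme.fromSpecResidueField_apply, Scheme.Hom.comp_apply]
      exact hi
  · intro i _ j _ hij
    have h2 : T.fromSpecResidueField w ≫ s.σ i = T.fromSpecResidueField w ≫ s.σ j := by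
      apply pullback.hom_ext
      · simpa using hij
      · simp only [Category.assoc, s.comp]
    have h3 : s.σ i w = s.σ j w := by
      have := congrArg (fun k => k (IsLocalRing.closedPoint (T.residueField w))) h2
      simp only [Scheme.Hom.comp_apply, Scheme.fromSpecResidueField_apply] at this
      exact this
    exact s.eq_of_mem ⟨w, rfl⟩ ⟨w, h3.symm⟩

variable (X : Over S)

/-- A closed open subscheme meeting only finitely many sheets locally is finite over the base. -/
theorem isFinite_ι_of_finite (hX : TwC.IsTwConst TwC.Topology.etale X) (U : X.left.Opens)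
    (hU : IsClosed (U : Set X.left))
    (h : ∀ (T : Scheme.{u}) (f : T ⟶ S), Etale f → IsAffine T → ∀ (s : Split (pullback.snd X.hom f)) (t : T),
      ∃ W ∈ nhds t, {i | ∃ w ∈ W, pullback.fst X.hom f (s.σ i w) ∈ U}.Finite) :
    IsFinite (U.ι ≫ X.hom) := by
  haveI := isClosedImmersion_ι U hU
  suffices QuasiCompact (U.ι ≫ X.hom) from isFinite_of_isClosedImmersion' X hX U.ι
  refine of_etale_twConst X hX @QuasiCompact (U.ι ≫ X.hom) fun T f hf s => ?_
  refine of_locally @QuasiCompact (U.ι ≫ X.hom) f fun t => ?_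
  obtain ⟨W, hW, htW, -⟩ := exists_isAffineOpen_mem_and_subset (U := ⊤) (x := t) trivial
  refine ⟨W, htW, ?_⟩
  haveI : IsAffine W.toScheme := hW
  haveI := hf
  obtain ⟨s'⟩ := s.nonempty_of_isPullback
    (a := pullback.map X.hom (W.ι ≫ f) X.hom f (𝟙 _) W.ι (𝟙 _) (by simp) (by simp))
    (b := W.ι) (p' := pullback.snd X.hom (W.ι ≫ f))
    (IsPullback.of_right (h₁₂ := pullback.fst X.hom f) (v₁₃ := X.hom) (h₂₂ := f)
      (by
        have : pullback.map X.hom (W.ι ≫ f) X.hom f (𝟙 _) W.ι (𝟙 _) (by simp) (by simp) ≫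
            pullback.fst X.hom f = pullback.fst X.hom (W.ι ≫ f) :=
          (pullback.lift_fst _ _ _).trans (Category.comp_id _)
        rw [this]
        exact IsPullback.of_hasPullback X.hom (W.ι ≫ f))
      (pullback.lift_snd _ _ _) (IsPullback.of_hasPullback X.hom f))
  choose V hV hVfin using h W (W.ι ≫ f) inferInstance inferInstance s'
  obtain ⟨J, -, hJ⟩ := isCompact_univ.elim_nhds_subcover V fun t _ => hV t
  have hfin : (⋃ t ∈ J, {i | ∃ w ∈ V t, pullback.fst X.hom (W.ι ≫ f) (s'.σ i w) ∈ U}).Finite :=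
    J.finite_toSet.biUnion fun t _ => hVfin t
  let z' : pullback (U.ι ≫ X.hom) (W.ι ≫ f) ⟶ pullback X.hom (W.ι ≫ f) :=
    pullback.map _ _ X.hom (W.ι ≫ f) U.ι (𝟙 _) (𝟙 S) (by simp) (by simp)
  have h1 : z' ≫ pullback.fst X.hom (W.ι ≫ f) = pullback.fst (U.ι ≫ X.hom) (W.ι ≫ f) ≫ U.ι :=
    pullback.lift_fst _ _ _
  have h2 : z' ≫ pullback.snd X.hom (W.ι ≫ f) = pullback.snd (U.ι ≫ X.hom) (W.ι ≫ f) :=
    (pullback.lift_snd _ _ _).trans (Category.comp_id _)
  haveI : IsClosedImmersion z' := MorphismProperty.of_isPullback (P := @IsClosedImmersion)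
    (IsPullback.of_right (h₁₂ := pullback.snd X.hom (W.ι ≫ f))
      (v₁₁ := pullback.fst (U.ι ≫ X.hom) (W.ι ≫ f))
      (by rw [h2]; exact (IsPullback.of_hasPullback (U.ι ≫ X.hom) (W.ι ≫ f)).flip) h1
      (IsPullback.of_hasPullback X.hom (W.ι ≫ f)).flip).flip inferInstance
  have hC : IsCompact (⋃ i ∈ (⋃ t ∈ J, {i | ∃ w ∈ V t, pullback.fst X.hom (W.ι ≫ f) (s'.σ i w) ∈ U}),
      Set.range (s'.σ i)) :=
    hfin.isCompact_biUnion fun i _ => isCompact_range (s'.σ i).continuous
  have hrange : IsCompact (Set.range z') := by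
    refine hC.of_isClosed_subset z'.isClosedEmbedding.isClosed_range ?_
    rintro _ ⟨x, rfl⟩
    obtain ⟨i, w, hw⟩ := s'.cover (z' x)
    obtain ⟨t, htJ, htw⟩ := Set.mem_iUnion₂.1 (hJ (Set.mem_univ w))
    refine Set.mem_biUnion (Set.mem_biUnion htJ ⟨w, htw, ?_⟩) ⟨w, hw⟩
    rw [hw, ← Scheme.Hom.comp_apply, h1]
    exact (pullback.fst (U.ι ≫ X.hom) (W.ι ≫ f) x).2
  haveI : CompactSpace ↥(pullback (U.ι ≫ X.hom) (W.ι ≫ f)) := by
    rw [← isCompact_univ_iff, z'.isClosedEmbedding.isEmbedding.isCompact_iff, Set.image_univ]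
    exact hrange
  exact (quasiCompact_iff_compactSpace _).2 inferInstance

/-- A finite étale morphism to a connected scheme whose fibre at one point is a rational point is an
isomorphism. -/
theorem isIso_of_fibre {Y : Scheme.{u}} (p : Y ⟶ S) [IsFinite p] [Etale p] [ConnectedSpace S] (s₀ : S)
    (hsub : (p ⁻¹' {s₀}).Subsingleton) (a : Spec (S.residueField s₀) ⟶ Y)
    (ha : a ≫ p = S.fromSpecResidueField s₀) : IsIso p := by
  let a' : Spec (S.residueField s₀) ⟶ pullback p (S.fromSpecResidueField s₀) :=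
    pullback.lift a (𝟙 _) (by rw [ha, Category.id_comp])
  have ha' : a' ≫ pullback.snd p (S.fromSpecResidueField s₀) = 𝟙 _ := pullback.lift_snd _ _ _
  haveI : IsOpenImmersion a' := EtaleSections.isOpenImmersion_section _ a' ha'
  haveI : Subsingleton ↥(pullback p (S.fromSpecResidueField s₀)) := by
    haveI := hsub.coe_sort
    exact (p.fiberHomeo s₀).injective.subsingleton
  haveI : Surjective a' := ⟨fun z => ⟨IsLocalRing.closedPoint _, Subsingleton.elim _ _⟩⟩
  haveI : IsIso a' := (isIso_iff_isOpenImmersion_and_surjective a').2 ⟨inferInstance, inferInstance⟩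
  haveI : IsIso (pullback.snd p (S.fromSpecResidueField s₀)) := by
    haveI : IsIso (a' ≫ pullback.snd p (S.fromSpecResidueField s₀)) := by rw [ha']; infer_instance
    exact IsIso.of_isIso_comp_left a' _
  rw [Scheme.Hom.isIso_iff_finrank_eq]
  funext t
  have h1 := congrFun (Scheme.Hom.finrank_eq_one_of_isIso (pullback.snd p (S.fromSpecResidueField s₀)))
    (IsLocalRing.closedPoint _)
  rw [Scheme.Hom.finrank_pullback_snd, Scheme.fromSpecResidueField_apply] at h1
  rw [(Scheme.Hom.isLocallyConstant_finrank p).apply_eq_of_preconnectedSpace t s₀, h1]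
  rfl

variable [IrreducibleSpace S] (hS : ∀ s : S, CAlg2.IsGeomUnibranch (S.presheaf.stalk s))
  (hX : TwC.IsTwConst TwC.Topology.etale X)

include hX in
/-- A point has a generalisation over the generic point. -/
theorem exists_generalization (x : X.left) : ∃ l : X.left, X.hom l = genericPoint S ∧ l ⤳ x := by
  haveI := etale X hX
  obtain ⟨a, ha, hfa⟩ := Flat.generalizingMap X.hom ((genericPoint_spec S).specializes (Set.mem_univ (X.hom x)))
  exact ⟨a, hfa, ha⟩

include hS hX in
theorem eq_of_generic_specializes {x l l' : X.left} (hl : X.hom l = genericPoint S)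
    (hl' : X.hom l' = genericPoint S) (h : l ⤳ x) (h' : l' ⤳ x) : l = l' := by
  haveI := etale X hX
  haveI : LocallyQuasiFinite X.hom := UnibranchEtale.locallyQuasiFinite_of_unramified X.hom
  exact UnibranchEtale.maximal_unique (UnibranchEtale.isGeomUnibranch_stalk_of_etale X.hom x (hS _)) h h'
    (UnibranchEtale.maximal_over_generic X.hom hl) (UnibranchEtale.maximal_over_generic X.hom hl')

include hS hX in
theorem isOpen_closure {l : X.left} (hl : X.hom l = genericPoint S) : IsOpen (closure ({l} : Set X.left)) := by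
  haveI := etale X hX
  haveI : LocallyQuasiFinite X.hom := UnibranchEtale.locallyQuasiFinite_of_unramified X.hom
  exact UnibranchEtale.component_isOpen (fun x => UnibranchEtale.isGeomUnibranch_stalk_of_etale X.hom x (hS _))
    (fun x => UnibranchEtale.finite_components_of_etale X.hom x)
    (UnibranchEtale.mem_components_of_maximal (UnibranchEtale.maximal_over_generic X.hom hl))

include hS hX in
theorem isFinite_closure {l : X.left} (hl : X.hom l = genericPoint S) (U : X.left.Opens)
    (hU : (U : Set X.left) = closure ({l} : Set X.left)) : IsFinite (U.ι ≫ X.hom) := by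
  haveI := etale X hX
  refine isFinite_ι_of_finite X hX U (hU ▸ isClosed_closure) fun T f hf _ s t => ?_
  haveI := hf
  haveI : LocallyQuasiFinite f := UnibranchEtale.locallyQuasiFinite_of_unramified f
  obtain ⟨W, htW, hW⟩ := UnibranchEtale.finite_inter_fibre f t (genericPoint S)
  refine ⟨W, W.2.mem_nhds htW, ((hW.biUnion fun w _ => finite_sheets X.hom f s w l)).subset ?_⟩
  rintro i ⟨w, hw, hwU⟩
  obtain ⟨w', hw', hfw'⟩ := Flat.generalizingMap f ((genericPoint_spec S).specializes (Set.mem_univ (f w)))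
  refine Set.mem_biUnion ⟨hw'.mem_open W.2 hw, hfw'⟩ ?_
  have h1 : pullback.fst X.hom f (s.σ i w') ∈ U :=
    (((hw'.map (s.σ i).continuous).map (pullback.fst X.hom f).continuous)).mem_open U.2 hwU
  have h2 : X.hom (pullback.fst X.hom f (s.σ i w')) = genericPoint S := by
    rw [← Scheme.Hom.comp_apply, pullback.condition, Scheme.Hom.comp_apply, s.apply_σ, hfw']
  refine eq_of_generic_specializes X hS hX h2 hl specializes_rfl ?_
  rw [← SetLike.mem_coe, hU] at h1
  exact specializes_iff_mem_closure.2 h1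

include hS hX in
theorem exists_clopen {l : X.left} (hl : X.hom l = genericPoint S) :
    ∃ U : X.left.Opens, (U : Set X.left) = closure ({l} : Set X.left) ∧ IsClosed (U : Set X.left) ∧
      IsFinite (U.ι ≫ X.hom) ∧ Etale (U.ι ≫ X.hom) ∧ Surjective (U.ι ≫ X.hom) := by
  haveI := etale X hX
  let U : X.left.Opens := ⟨_, isOpen_closure X hS hX hl⟩
  haveI := isFinite_closure X hS hX hl U rfl
  refine ⟨U, rfl, isClosed_closure, inferInstance, inferInstance, ⟨fun s => ?_⟩⟩
  have h1 : genericPoint S ∈ Set.range (U.ι ≫ X.hom) := ⟨⟨l, subset_closure rfl⟩, hl⟩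
  exact ((genericPoint_spec S).specializes (Set.mem_univ s)).mem_closed
    (U.ι ≫ X.hom).isClosedMap.isClosed_range h1

include hX in
theorem section_unique (σ₁ σ₂ : S ⟶ X.left) (h₁ : σ₁ ≫ X.hom = 𝟙 S) (h₂ : σ₂ ≫ X.hom = 𝟙 S)
    (h : S.fromSpecResidueField (genericPoint S) ≫ σ₁ = S.fromSpecResidueField (genericPoint S) ≫ σ₂) :
    σ₁ = σ₂ := by
  haveI := etale X hX
  haveI := isSeparated X hX
  haveI : Nonempty ↥(Spec (S.residueField (genericPoint S))) := inferInstance
  exact EtaleSections.eq_of_connected X.hom σ₁ σ₂ (S.fromSpecResidueField (genericPoint S)) h (h₁.trans h₂.symm)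

include hS hX in
theorem exists_section (τ : Spec (S.residueField (genericPoint S)) ⟶ X.left)
    (hτ : τ ≫ X.hom = S.fromSpecResidueField (genericPoint S)) :
    ∃ σ : S ⟶ X.left, σ ≫ X.hom = 𝟙 S ∧ S.fromSpecResidueField (genericPoint S) ≫ σ = τ := by
  haveI := etale X hX
  have hl : X.hom (τ (IsLocalRing.closedPoint _)) = genericPoint S := by
    rw [← Scheme.Hom.comp_apply, hτ, Scheme.fromSpecResidueField_apply]
  obtain ⟨U, hU, -, hfin, het, -⟩ := exists_clopen X hS hX hl
  haveI := hfin
  haveI := het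
  have hr : Set.range τ ⊆ Set.range U.ι := by
    rintro _ ⟨w, rfl⟩
    rw [Scheme.Opens.range_ι, hU, Subsingleton.elim w (IsLocalRing.closedPoint _)]
    exact subset_closure rfl
  have hfib : ((U.ι ≫ X.hom) ⁻¹' {genericPoint S}).Subsingleton := by
    intro a ha b hb
    refine Subtype.ext (eq_of_generic_specializes X hS hX ha hb specializes_rfl ?_)
    have h1 : ∀ c : U, X.hom c.1 = genericPoint S → c.1 = τ (IsLocalRing.closedPoint _) := fun c hc =>
      eq_of_generic_specializes X hS hX hc hl specializes_rfl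
        (specializes_iff_mem_closure.2 (hU ▸ c.2))
    rw [h1 a ha, h1 b hb]
  have hiso := isIso_of_fibre (U.ι ≫ X.hom) (genericPoint S) hfib (IsOpenImmersion.lift U.ι τ hr)
    (by rw [IsOpenImmersion.lift_fac_assoc, hτ])
  refine ⟨inv (U.ι ≫ X.hom) ≫ U.ι, by rw [Category.assoc, IsIso.inv_hom_id], ?_⟩
  have h2 : S.fromSpecResidueField (genericPoint S) = IsOpenImmersion.lift U.ι τ hr ≫ U.ι ≫ X.hom := by
    rw [IsOpenImmersion.lift_fac_assoc, hτ]
  rw [h2, Category.assoc, IsIso.hom_inv_id_assoc, IsOpenImmersion.lift_fac]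

end Groth.Agent.TwConst
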