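import Mathlib
import Groth.Agent.TwConst.BaseChange
import Groth.Agent.TwConst.Structure

/-!
Clopen subschemes of twisted constant schemes.
-/

set_option autoImplicit false
set_option linter.style.haveILetI false

universe u

open CategoryTheory AlgebraicGeometry Limits MorphismProperty TopologicalSpace

namespace Groth.Agent.TwConst

/-- In a space with finitely many components, a set stable under generalisation and specialisation is closed. -/
theorem isClosed_of_stable {T : Scheme.{u}} (hT : (irreducibleComponents T).Finite) {A : Set T}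
    (hA : ∀ w w' : T, w ⤳ w' → (w ∈ A ↔ w' ∈ A)) : IsClosed A := by
  have key : A = ⋃ C ∈ {C ∈ irreducibleComponents T | C ⊆ A}, C := by
    refine Set.Subset.antisymm (fun w hw => ?_) (Set.iUnion₂_subset fun C hC => hC.2)
    refine Set.mem_biUnion ⟨irreducibleComponent_mem_irreducibleComponents w, fun v hv => ?_⟩
      mem_irreducibleComponent
    obtain ⟨η, hη, -⟩ := UnibranchEtale.exists_generic (irreducibleComponent_mem_irreducibleComponents w)
    exact (hA η v (hη.specializes hv)).1 ((hA η w (hη.specializes mem_irreducibleComponent)).2 hw)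
  rw [key]
  exact (hT.subset fun C hC => hC.1).isClosed_biUnion fun C hC => isClosed_of_mem_irreducibleComponents C hC.1

theorem quasiCompact_of_comp_surjective {A B C : Scheme.{u}} (g : A ⟶ B) (p : B ⟶ C) [Surjective g]
    [QuasiCompact (g ≫ p)] : QuasiCompact p := by
  refine ⟨fun U hUo hUc => ?_⟩
  have h : IsCompact ((g ≫ p) ⁻¹' U) := QuasiCompact.isCompact_preimage (f := g ≫ p) U hUo hUc
  have := h.image g.continuous
  rwa [show g '' ((g ≫ p) ⁻¹' U) = p ⁻¹' U from by
    rw [show (g ≫ p) ⁻¹' U = g ⁻¹' (p ⁻¹' U) from rfl, Set.image_preimage_eq _ g.surjective]] at this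

variable {S : Scheme.{u}} (X : Over S)

theorem exists_split_affine (hX : TwC.IsTwConst TwC.Topology.etale X) (t : S) :
    ∃ (T : Scheme.{u}) (f : T ⟶ S), IsAffine T ∧ Etale f ∧ t ∈ Set.range f ∧
      Nonempty (Split (pullback.snd X.hom f)) := by
  obtain ⟨T, f, hf, ⟨w, hw⟩, ⟨s⟩⟩ := exists_split X hX t
  obtain ⟨W, hW, hwW, -⟩ := exists_isAffineOpen_mem_and_subset (U := ⊤) (x := w) trivial
  haveI := hf
  refine ⟨W, W.ι ≫ f, hW, inferInstance, ⟨⟨w, hwW⟩, hw⟩, ?_⟩
  refine s.nonempty_of_isPullback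
    (a := pullback.map X.hom (W.ι ≫ f) X.hom f (𝟙 _) W.ι (𝟙 _) (by simp) (by simp))
    (IsPullback.of_right (h₁₂ := pullback.fst X.hom f) (v₁₃ := X.hom) (h₂₂ := f)
      (by
        have : pullback.map X.hom (W.ι ≫ f) X.hom f (𝟙 _) W.ι (𝟙 _) (by simp) (by simp) ≫
            pullback.fst X.hom f = pullback.fst X.hom (W.ι ≫ f) :=
          (pullback.lift_fst _ _ _).trans (Category.comp_id _)
        rw [this]
        exact IsPullback.of_hasPullback X.hom (W.ι ≫ f))
      (pullback.lift_snd _ _ _) (IsPullback.of_hasPullback X.hom f))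

/-- A clopen subscheme with one finite fibre over a connected locally Noetherian base is finite. -/
theorem isFinite_of_fibre_finite [IsLocallyNoetherian S] [ConnectedSpace S]
    (hX : TwC.IsTwConst TwC.Topology.etale X) (U : X.left.Opens) (hU : IsClosed (U : Set X.left))
    (hs : ∃ s : S, ((U : Set X.left) ∩ X.hom ⁻¹' {s}).Finite) : IsFinite (U.ι ≫ X.hom) := by
  haveI := etale X hX
  -- the sheets passing through `U`
  have hclop : ∀ {T : Scheme.{u}} (f : T ⟶ S) (s : Split (pullback.snd X.hom f)) (i : s.I) (w w' : T),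
      w ⤳ w' → (pullback.fst X.hom f (s.σ i w) ∈ U ↔ pullback.fst X.hom f (s.σ i w') ∈ U) := by
    intro T f s i w w' h
    have h1 := (h.map (s.σ i).continuous).map (pullback.fst X.hom f).continuous
    exact ⟨fun hw => h1.mem_closed hU hw, fun hw => h1.mem_open U.2 hw⟩
  have hfib : ∀ {T : Scheme.{u}} (f : T ⟶ S) (s : Split (pullback.snd X.hom f)) (w : T),
      {i | pullback.fst X.hom f (s.σ i w) ∈ U}.Finite ↔ ((U : Set X.left) ∩ X.hom ⁻¹' {f w}).Finite := by
    intro T f s w
    constructor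
    · intro h
      refine (h.image fun i => pullback.fst X.hom f (s.σ i w)).subset ?_
      rintro l ⟨hl, hl'⟩
      obtain ⟨z, hz, hz'⟩ := Scheme.Pullback.exists_preimage_pullback (f := X.hom) (g := f) l w hl'
      obtain ⟨i, t, ht⟩ := s.cover z
      have : t = w := by rw [← hz', ← ht, s.apply_σ]
      subst this
      exact ⟨i, by rw [Set.mem_setOf_eq, ht, hz]; exact hl, by simp only [ht, hz]⟩
    · intro h
      refine (h.biUnion fun l _ => finite_sheets X.hom f s w l).subset fun i hi => ?_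
      refine Set.mem_biUnion ⟨hi, ?_⟩ rfl
      change X.hom (pullback.fst X.hom f (s.σ i w)) = f w
      rw [← Scheme.Hom.comp_apply (pullback.fst X.hom f), pullback.condition, Scheme.Hom.comp_apply, s.apply_σ]
  have hnoeth : ∀ {T : Scheme.{u}} (f : T ⟶ S) [Etale f] [IsAffine T], (irreducibleComponents T).Finite := by
    intro T f _ _
    haveI : IsLocallyNoetherian T := LocallyOfFiniteType.isLocallyNoetherian f
    haveI : IsNoetherian T := ⟨⟩
    exact TopologicalSpace.NoetherianSpace.finite_irreducibleComponents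
  let B : Set S := {s | ((U : Set X.left) ∩ X.hom ⁻¹' {s}).Finite}
  have hB : ∀ s : S, (s ∈ B → B ∈ nhds s) ∧ (s ∉ B → Bᶜ ∈ nhds s) := by
    intro s
    obtain ⟨T, f, hT, hf, ⟨w, hw⟩, ⟨sp⟩⟩ := exists_split_affine X hX s
    have hst : ∀ v v' : T, v ⤳ v' → (v ∈ f ⁻¹' B ↔ v' ∈ f ⁻¹' B) := fun v v' h => by
      simp only [Set.mem_preimage, B, Set.mem_setOf_eq, ← hfib f sp]
      rw [show {i | pullback.fst X.hom f (sp.σ i v) ∈ U} = {i | pullback.fst X.hom f (sp.σ i v') ∈ U} from
        Set.ext fun i => hclop f sp i v v' h]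
    haveI := hf
    haveI := hT
    have hc := isClosed_of_stable (hnoeth f) hst
    have hc' := isClosed_of_stable (hnoeth f) (A := f ⁻¹' Bᶜ) fun v v' h => not_congr (hst v v' h)
    refine ⟨fun hs => ?_, fun hs => ?_⟩
    · refine Filter.mem_of_superset (f.isOpenMap.image_mem_nhds (x := w)
        ((isOpen_compl_iff.2 hc').mem_nhds (show w ∉ f ⁻¹' Bᶜ from fun h => h (hw.symm ▸ hs))) |> (hw ▸ ·)) ?_
      rintro _ ⟨v, hv, rfl⟩
      by_contra h
      exact hv h
    · refine Filter.mem_of_superset (f.isOpenMap.image_mem_nhds (x := w)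
        ((isOpen_compl_iff.2 hc).mem_nhds (show w ∉ f ⁻¹' B from fun h => hs (hw ▸ h))) |> (hw ▸ ·)) ?_
      rintro _ ⟨v, hv, rfl⟩
      exact hv
  have hBu : B = Set.univ := IsClopen.eq_univ
    ⟨isOpen_compl_iff.1 (isOpen_iff_mem_nhds.2 fun s hs => (hB s).2 hs),
      isOpen_iff_mem_nhds.2 fun s hs => (hB s).1 hs⟩ hs
  refine isFinite_ι_of_finite X hX U hU fun T f hf hT s t => ⟨Set.univ, Filter.univ_mem, ?_⟩
  haveI := hf
  haveI := hT
  have h1 : ∀ C ∈ irreducibleComponents T, ∃ g : T, IsGenericPoint g C := fun C hC =>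
    let ⟨g, hg, _⟩ := UnibranchEtale.exists_generic hC
    ⟨g, hg⟩
  choose g hg using h1
  refine (Set.Finite.biUnion' (hnoeth f)
    (t := fun C hC => {i | pullback.fst X.hom f (s.σ i (g C hC)) ∈ U})
    fun C hC => (hfib f s (g C hC)).2 (hBu.ge (Set.mem_univ (f (g C hC))))).subset ?_
  rintro i ⟨w, -, hw⟩
  refine Set.mem_iUnion₂.2 ⟨_, irreducibleComponent_mem_irreducibleComponents w, ?_⟩
  exact (hclop f s i _ w ((hg _ _).specializes mem_irreducibleComponent)).2 hw

theorem isTwConst_etale_of_finiteEtale {R : Over S} [GrpObj R]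
    (hR : TwC.IsTwConstGrp TwC.Topology.finiteEtale R) : TwC.IsTwConst TwC.Topology.etale R := by
  obtain ⟨S', f, -, hfe, hfs, hloc⟩ := hR
  intro s
  haveI := hfe
  haveI := hfs
  obtain ⟨s', hs'⟩ := f.surjective s
  obtain ⟨U, hsU, -, M, _, e, -⟩ := hloc s'
  exact ⟨U, U.ι ≫ f, inferInstance, ⟨⟨s', hsU⟩, hs'⟩, M, ⟨e⟩⟩

/-- An isotrivial twisted constant group is covered by clopen subschemes finite over the base. -/
theorem exists_finite_clopen {R : Over S} [GrpObj R]
    (hR : TwC.IsTwConstGrp TwC.Topology.finiteEtale R) (x : R.left) :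
    ∃ U : R.left.Opens, x ∈ U ∧ IsClosed (U : Set R.left) ∧ IsFinite (U.ι ≫ R.hom) := by
  have hX := isTwConst_etale_of_finiteEtale hR
  obtain ⟨S', f, hff, hfe, hfs, hloc⟩ := hR
  haveI := hff
  haveI := hfe
  haveI := hfs
  obtain ⟨s', hs'⟩ := f.surjective (R.hom x)
  obtain ⟨V, hsV, hVc, M, _, e, -⟩ := hloc s'
  obtain ⟨sp⟩ := split_of_iso _ R M e
  obtain ⟨q, hq, -⟩ := Scheme.Pullback.exists_preimage_pullback (f := R.hom) (g := V.ι ≫ f) x ⟨s', hsV⟩ hs'.symm
  obtain ⟨i, t, ht⟩ := sp.cover q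
  haveI : IsClosedImmersion V.ι := isClosedImmersion_ι V hVc
  haveI := sp.isOpen i
  haveI : IsClosedImmersion (sp.σ i) := .of_isPreimmersion _ (sp.isClosed_range i)
  let h : (V : Scheme.{u}) ⟶ R.left := sp.σ i ≫ pullback.fst R.hom (V.ι ≫ f)
  haveI : Etale h := inferInstanceAs (Etale (sp.σ i ≫ pullback.fst R.hom (V.ι ≫ f)))
  haveI : IsFinite h := inferInstanceAs (IsFinite (sp.σ i ≫ pullback.fst R.hom (V.ι ≫ f)))
  have hh : h ≫ R.hom = V.ι ≫ f := by
    rw [Category.assoc, pullback.condition, ← Category.assoc, sp.comp, Category.id_comp]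
  let U : R.left.Opens := ⟨Set.range h, h.isOpenMap.isOpen_range⟩
  have hUc : IsClosed (U : Set R.left) := h.isClosedMap.isClosed_range
  refine ⟨U, ⟨t, ?_⟩, hUc, ?_⟩
  · rw [Scheme.Hom.comp_apply, ht, hq]
  haveI := isClosedImmersion_ι U hUc
  have hr : Set.range h ⊆ Set.range U.ι := by rw [Scheme.Opens.range_ι]; exact subset_rfl
  let g := IsOpenImmersion.lift U.ι h hr
  have hg : g ≫ U.ι = h := IsOpenImmersion.lift_fac _ _ _
  haveI : Surjective g := ⟨fun z => by
    obtain ⟨v, hv⟩ := z.2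
    refine ⟨v, U.ι.injective ?_⟩
    rw [← Scheme.Hom.comp_apply, hg]
    exact hv⟩
  haveI : QuasiCompact (g ≫ U.ι ≫ R.hom) := by rw [reassoc_of% hg, hh]; infer_instance
  haveI : QuasiCompact (U.ι ≫ R.hom) := quasiCompact_of_comp_surjective g _
  exact isFinite_of_isClosedImmersion' R hX U.ι

end Groth.Agent.TwConst
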