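import Mathlib
import Groth.Agent.TwConst.BaseChange
import Groth.Agent.TwConst.Structure
import Groth.Agent.S9812

/-!
Valuative criterion and connected components of twisted constant schemes.
-/

set_option autoImplicit false
set_option linter.style.haveILetI false

universe u

open CategoryTheory AlgebraicGeometry Limits MorphismProperty TopologicalSpace

namespace Groth.Agent.TwConst

theorem isGeomUnibranch_stalk_spec (R : Type u) [CommRing R] [IsDomain R] [IsIntegrallyClosed R]
    (x : Spec (CommRingCat.of R)) : CAlg2.IsGeomUnibranch ((Spec (CommRingCat.of R)).presheaf.stalk x) := by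
  let e : (Spec (CommRingCat.of R)).presheaf.stalk x ≃+* Localization.AtPrime x.asIdeal :=
    (Spec.stalkIso (CommRingCat.of R) x).commRingCatIsoToRingEquiv
  haveI : IsDomain (Localization.AtPrime x.asIdeal) := IsLocalization.isDomain_of_atPrime _ x.asIdeal
  haveI : IsIntegrallyClosed (Localization.AtPrime x.asIdeal) :=
    isIntegrallyClosed_of_isLocalization _ x.asIdeal.primeCompl x.asIdeal.primeCompl_le_nonZeroDivisors
  haveI : IsDomain ((Spec (CommRingCat.of R)).presheaf.stalk x) := e.toMulEquiv.isDomain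
  haveI : IsIntegrallyClosed ((Spec (CommRingCat.of R)).presheaf.stalk x) := IsIntegrallyClosed.of_equiv e.symm
  exact Groth.Agent.S9812.result _

variable {S : Scheme.{u}} (X : Over S)

theorem valuativeCriterion (hX : TwC.IsTwConst TwC.Topology.etale X) : ValuativeCriterion X.hom := by
  haveI := isSeparated X hX
  refine ValuativeCriterion.iff.2 ⟨fun sq => ?_, IsSeparated.valuativeCriterion X.hom⟩
  let gK : Spec (CommRingCat.of sq.K) ⟶ Spec (CommRingCat.of sq.R) :=
    Spec.map (CommRingCat.ofHom (algebraMap sq.R sq.K))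
  let X' := Red.bc sq.i₂ X
  have hX' : TwC.IsTwConst TwC.Topology.etale X' := isTwConst_bc sq.i₂ X hX
  have hw : sq.i₁ ≫ X.hom = gK ≫ sq.i₂ := sq.commSq.w
  let τ : Spec (CommRingCat.of sq.K) ⟶ X'.left := pullback.lift sq.i₁ gK hw
  have hτ : τ ≫ X'.hom = gK := pullback.lift_snd _ _ _
  have hl : X'.hom (τ (IsLocalRing.closedPoint sq.K)) = genericPoint (Spec (CommRingCat.of sq.R)) := by
    rw [← Scheme.Hom.comp_apply, hτ, genericPoint_eq_bot_of_affine]
    refine PrimeSpectrum.ext ?_
    change (IsLocalRing.maximalIdeal sq.K).comap (algebraMap sq.R sq.K) = ⊥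
    rw [IsLocalRing.maximalIdeal_eq_bot, ← RingHom.ker_eq_comap_bot]
    exact (RingHom.injective_iff_ker_eq_bot _).1 (IsFractionRing.injective sq.R sq.K)
  obtain ⟨U, hU, -, hfin, -, -⟩ :=
    exists_clopen X' (fun s => isGeomUnibranch_stalk_spec sq.R s) hX' hl
  haveI := hfin
  have hr : Set.range τ ⊆ Set.range U.ι := by
    rintro _ ⟨w, rfl⟩
    rw [Scheme.Opens.range_ι, hU, Subsingleton.elim w (IsLocalRing.closedPoint sq.K)]
    exact subset_closure rfl
  have hex : ValuativeCriterion.Existence (U.ι ≫ X'.hom) := by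
    have h : UniversallyClosed (U.ι ≫ X'.hom) := inferInstance
    rw [UniversallyClosed.eq_valuativeCriterion] at h
    exact h.1
  obtain ⟨⟨⟨l, hl₁, hl₂⟩⟩⟩ := hex ⟨sq.R, sq.K, IsOpenImmersion.lift U.ι τ hr, 𝟙 _,
    ⟨by rw [IsOpenImmersion.lift_fac_assoc, hτ, Category.comp_id]⟩⟩
  refine ⟨⟨⟨l ≫ U.ι ≫ pullback.fst X.hom sq.i₂, ?_, ?_⟩⟩⟩
  · rw [reassoc_of% hl₁, IsOpenImmersion.lift_fac_assoc]
    exact pullback.lift_fst _ _ _
  · simp only [Category.assoc]
    rw [pullback.condition, ← Category.assoc U.ι, ← Category.assoc l]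
    change (l ≫ U.ι ≫ X'.hom) ≫ sq.i₂ = _
    rw [hl₂, Category.id_comp]

/-- A clopen subscheme of the base, as a twisted constant restriction. -/
theorem connectedComponent_finite [IsLocallyNoetherian S]
    (hS : ∀ s : S, CAlg2.IsGeomUnibranch (S.presheaf.stalk s))
    (hX : TwC.IsTwConst TwC.Topology.etale X) (x : X.left) :
    ∃ U : X.left.Opens, (U : Set X.left) = connectedComponent x ∧ IsFinite (U.ι ≫ X.hom) := by
  have hfinS : ∀ y : S, ∃ U : S.Opens, y ∈ U ∧ (irreducibleComponents ↥U).Finite := by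
    intro y
    obtain ⟨W, hW, hyW, -⟩ := exists_isAffineOpen_mem_and_subset (U := ⊤) (x := y) trivial
    haveI : IsAffine W.toScheme := hW
    haveI : CompactSpace W.toScheme := inferInstance
    haveI : IsNoetherian W.toScheme := ⟨⟩
    exact ⟨W, hyW, TopologicalSpace.NoetherianSpace.finite_irreducibleComponents (α := W.toScheme)⟩
  let C := irreducibleComponent (X.hom x)
  have hC : IsOpen C :=
    UnibranchEtale.component_isOpen hS hfinS (irreducibleComponent_mem_irreducibleComponents _)
  let V : S.Opens := ⟨C, hC⟩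
  haveI : IsClosedImmersion V.ι := isClosedImmersion_ι V isClosed_irreducibleComponent
  haveI : IrreducibleSpace V.toScheme := by
    haveI : Nonempty V := ⟨⟨_, mem_irreducibleComponent⟩⟩
    haveI : PreirreducibleSpace V.toScheme :=
      Subtype.preirreducibleSpace (isIrreducible_irreducibleComponent (x := X.hom x)).isPreirreducible
    exact { toNonempty := inferInstance }
  let X' := Red.bc V.ι X
  have hX' := isTwConst_bc V.ι X hX
  have hV : ∀ v : V, CAlg2.IsGeomUnibranch (V.toScheme.presheaf.stalk v) := fun v =>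
    UnibranchEtale.isGeomUnibranch_stalk_of_etale V.ι v (hS _)
  let j : X'.left ⟶ X.left := pullback.fst X.hom V.ι
  haveI : IsOpenImmersion j := inferInstanceAs (IsOpenImmersion (pullback.fst X.hom V.ι))
  haveI : IsClosedImmersion j := inferInstanceAs (IsClosedImmersion (pullback.fst X.hom V.ι))
  obtain ⟨x', hx'⟩ : x ∈ Set.range j := by
    change x ∈ Set.range (pullback.fst X.hom V.ι)
    rw [Scheme.Pullback.range_fst, Scheme.Opens.range_ι]
    exact mem_irreducibleComponent
  obtain ⟨l, hl, hlx⟩ := exists_generalization X' hX' x'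
  obtain ⟨U', hU', hU'c, hfin, -, -⟩ := exists_clopen X' hV hX' hl
  haveI := hfin
  haveI : IsFinite V.ι := inferInstance
  have hconn : _root_.IsPreconnected (j '' (U' : Set X'.left)) := by
    rw [hU']
    exact ((isIrreducible_singleton.closure).image j j.continuous.continuousOn).isConnected.isPreconnected
  have hclopen : IsClopen (j '' (U' : Set X'.left)) :=
    ⟨j.isClosedEmbedding.isClosedMap _ hU'c, j.isOpenEmbedding.isOpenMap _ U'.2⟩
  have hxU : x ∈ j '' (U' : Set X'.left) := ⟨x', by rw [hU']; exact hlx.mem_closure, hx'⟩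
  have hcomp : j '' (U' : Set X'.left) = connectedComponent x :=
    (hconn.subset_connectedComponent hxU).antisymm (hclopen.connectedComponent_subset hxU)
  refine ⟨j ''ᵁ U', hcomp, ?_⟩
  let e := IsOpenImmersion.isoOfRangeEq (U'.ι ≫ j) (j ''ᵁ U').ι (by
    rw [Scheme.Opens.range_ι]
    change _ = j '' (U' : Set X'.left)
    ext z
    simp only [Set.mem_range, Scheme.Hom.comp_apply, Set.mem_image]
    exact ⟨fun ⟨w, hw⟩ => ⟨w.1, w.2, hw⟩, fun ⟨w, hw, hz⟩ => ⟨⟨w, hw⟩, hz⟩⟩)
  have he : e.inv ≫ U'.ι ≫ j = (j ''ᵁ U').ι := IsOpenImmersion.isoOfRangeEq_inv_fac _ _ _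
  rw [← he, Category.assoc, Category.assoc, MorphismProperty.cancel_left_of_respectsIso @IsFinite]
  change IsFinite (U'.ι ≫ pullback.fst X.hom V.ι ≫ X.hom)
  rw [pullback.condition, ← Category.assoc]
  change IsFinite ((U'.ι ≫ X'.hom) ≫ V.ι)
  infer_instance

end Groth.Agent.TwConst
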