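import Mathlib
import Groth.Agent.TwConst.Valuative
import Groth.Agent.TwConst.Clopen
import Groth.Agent.Hensel.LocalPiece

/-!
Separated étale schemes and twisted constant schemes over henselian local rings.
-/

set_option autoImplicit false
set_option linter.style.haveILetI false

universe u

open CategoryTheory AlgebraicGeometry Limits MorphismProperty TopologicalSpace

namespace Groth.Agent.TwConst

/-- The local ring of an étale algebra at a prime over the closed point of a henselian ring is finite free. -/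
theorem local_piece {R B : Type u} [CommRing R] [HenselianLocalRing R] [CommRing B] [Algebra R B]
    [Algebra.Etale R B] (q : Ideal B) [q.IsPrime] (hq : q.comap (algebraMap R B) = IsLocalRing.maximalIdeal R)
    (L : Type u) [CommRing L] [Algebra B L] [IsLocalization.AtPrime L q] [Algebra R L] [IsScalarTower R B L] :
    Module.Finite R L ∧ Algebra.Etale R L := by
  haveI : q.LiesOver (IsLocalRing.maximalIdeal R) := ⟨hq.symm⟩
  haveI := Hensel.finite_atPrime R B q
  let e : Localization.AtPrime q ≃ₐ[R] L :=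
    (IsLocalization.algEquiv q.primeCompl (Localization.AtPrime q) L).restrictScalars R
  haveI : Module.Finite R L := Module.Finite.equiv e.toLinearEquiv
  haveI : Module.Flat B L := IsLocalization.flat L q.primeCompl
  haveI : Module.Flat R L := Module.Flat.trans R B L
  haveI : Module.Free R L := Module.free_of_flat_of_isLocalRing
  haveI : Module.FinitePresentation R L := Module.finitePresentation_of_projective R L
  haveI : Algebra.FormallyEtale B L := Algebra.FormallyEtale.of_isLocalization q.primeCompl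
  haveI : Algebra.FormallyEtale R L := Algebra.FormallyEtale.comp R B L
  exact ⟨inferInstance, ⟨inferInstance, inferInstance⟩⟩

variable {R : Type u} [CommRing R] [HenselianLocalRing R] {Y : Scheme.{u}}
  (p : Y ⟶ Spec (CommRingCat.of R))

theorem connectedSpace_spec_local (R : Type u) [CommRing R] [IsLocalRing R] :
    ConnectedSpace ↥(Spec (CommRingCat.of R)) := by
  haveI : Nonempty ↥(Spec (CommRingCat.of R)) := ⟨IsLocalRing.closedPoint R⟩
  haveI : PreconnectedSpace ↥(Spec (CommRingCat.of R)) := ⟨by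
    have h : ∀ z : ↥(Spec (CommRingCat.of R)), z ⤳ IsLocalRing.closedPoint R :=
      fun z => IsLocalRing.specializes_closedPoint (R := R) z
    refine isPreconnected_of_forall (IsLocalRing.closedPoint R) fun z _ => ⟨closure {z}, Set.subset_univ _, ?_,
      subset_closure rfl, isPreconnected_singleton.closure⟩
    exact (h z).mem_closure⟩
  exact { toNonempty := inferInstance }

/-- The local scheme at a point over the closed point. -/
theorem main_local [IsSeparated p] [Etale p] (x : Y) (hx : p x = IsLocalRing.closedPoint R) :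
    IsOpenImmersion (Y.fromSpecStalk x) ∧ IsClosedImmersion (Y.fromSpecStalk x) ∧
      IsFinite (Y.fromSpecStalk x ≫ p) ∧ Etale (Y.fromSpecStalk x ≫ p) ∧ Surjective (Y.fromSpecStalk x ≫ p) := by
  obtain ⟨A, hA, hxA, -⟩ := exists_isAffineOpen_mem_and_subset (U := ⊤) (x := x) trivial
  let ψ : CommRingCat.of R ⟶ Γ(Y, A) := Spec.preimage (hA.fromSpec ≫ p)
  have hψ : Spec.map ψ = hA.fromSpec ≫ p := Spec.map_preimage _
  have het : ψ.hom.Etale := by
    rw [← HasRingHomProperty.Spec_iff (P := @Etale), hψ]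
    infer_instance
  letI := ψ.hom.toAlgebra
  haveI : Algebra.Etale R Γ(Y, A) := het
  set q := (hA.primeIdealOf ⟨x, hxA⟩).asIdeal
  have hq : q.comap (algebraMap R Γ(Y, A)) = IsLocalRing.maximalIdeal R := by
    have : Spec.map ψ (hA.primeIdealOf ⟨x, hxA⟩) = IsLocalRing.closedPoint R := by
      rw [hψ, Scheme.Hom.comp_apply, hA.fromSpec_primeIdealOf, hx]
    exact congrArg PrimeSpectrum.asIdeal this
  letI := TopCat.Presheaf.algebra_section_stalk Y.presheaf (⟨x, hxA⟩ : A)
  haveI := hA.isLocalization_stalk ⟨x, hxA⟩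
  letI : Algebra R (Y.presheaf.stalk x) :=
    ((algebraMap Γ(Y, A) (Y.presheaf.stalk x)).comp (algebraMap R Γ(Y, A))).toAlgebra
  haveI : IsScalarTower R Γ(Y, A) (Y.presheaf.stalk x) := IsScalarTower.of_algebraMap_eq fun _ => rfl
  obtain ⟨hfin, hfp⟩ := local_piece q hq (Y.presheaf.stalk x)
  have hcomp : Y.fromSpecStalk x ≫ p = Spec.map (ψ ≫ Y.presheaf.germ A x hxA) := by
    rw [← hA.fromSpecStalk_eq_fromSpecStalk hxA, IsAffineOpen.fromSpecStalk, Category.assoc, ← hψ, Spec.map_comp]
  haveI hF : IsFinite (Y.fromSpecStalk x ≫ p) := by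
    rw [hcomp, IsFinite.SpecMap_iff]
    exact hfin
  haveI : Etale (Y.fromSpecStalk x ≫ p) := by
    rw [hcomp, HasRingHomProperty.Spec_iff (P := @Etale)]
    change (algebraMap R (Y.presheaf.stalk x)).Etale
    rw [RingHom.etale_algebraMap]
    exact hfp
  haveI : Etale (Y.fromSpecStalk x) := Etale.of_comp _ p
  haveI : Flat (Y.fromSpecStalk x) := by
    rw [← hA.fromSpecStalk_eq_fromSpecStalk hxA, IsAffineOpen.fromSpecStalk]
    haveI : Flat (Spec.map (Y.presheaf.germ A x hxA)) := by
      rw [Flat.SpecMap_iff]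
      exact IsLocalization.flat (Y.presheaf.stalk x) q.primeCompl
    infer_instance
  haveI : IsOpenImmersion (Y.fromSpecStalk x) := IsOpenImmersion.of_flat_of_mono _
  haveI : UniversallyClosed (Y.fromSpecStalk x) :=
    UniversallyClosed.of_comp_of_isSeparated _ p
  refine ⟨inferInstance, .of_isPreimmersion _ (Y.fromSpecStalk x).isClosedMap.isClosed_range, inferInstance,
    inferInstance, ⟨fun s => ?_⟩⟩
  obtain ⟨a, -, ha⟩ := Flat.generalizingMap (Y.fromSpecStalk x ≫ p)
    (show s ⤳ (Y.fromSpecStalk x ≫ p) (IsLocalRing.closedPoint (Y.presheaf.stalk x) : Spec (Y.presheaf.stalk x)) by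
      rw [Scheme.Hom.comp_apply, Scheme.fromSpecStalk_closedPoint, hx]
      exact IsLocalRing.specializes_closedPoint (R := R) s)
  exact ⟨a, ha⟩

theorem eq_of_specializes [lft : LocallyOfFiniteType p] [LocallyQuasiFinite p] {x x' : Y} (hx : p x = p x') (h : x ⤳ x') : x = x' := by
  haveI := lft
  have hc := (p.quasiFiniteAt x').isClopen_singleton_asFiber
  have hr : x ∈ Set.range (p.fiberι (p x')) := by rw [p.range_fiberι]; exact hx
  obtain ⟨a, rfl⟩ := hr
  have h1 : a ⤳ p.asFiber x' :=
    (p.fiberι (p x')).isEmbedding.isInducing.specializes_iff.1 (by rwa [p.fiberι_asFiber])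
  obtain rfl : a = p.asFiber x' := h1.mem_open hc.2 rfl
  exact p.fiberι_asFiber x'

/-- A rational point of the closed fibre of a separated étale scheme lifts to a section. -/
theorem exists_section_of_etale [IsSeparated p] [Etale p]
    (τ : Spec (CommRingCat.of (IsLocalRing.ResidueField R)) ⟶ Y)
    (hτ : τ ≫ p = Spec.map (CommRingCat.ofHom (IsLocalRing.residue R))) :
    ∃ σ : Spec (CommRingCat.of R) ⟶ Y, σ ≫ p = 𝟙 _ ∧
      Spec.map (CommRingCat.ofHom (IsLocalRing.residue R)) ≫ σ = τ := by
  haveI := connectedSpace_spec_local R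
  haveI : LocallyQuasiFinite p := UnibranchEtale.locallyQuasiFinite_of_unramified p
  set k := IsLocalRing.closedPoint (IsLocalRing.ResidueField R)
  have hres : Spec.map (CommRingCat.ofHom (IsLocalRing.residue R)) k = IsLocalRing.closedPoint R :=
    IsLocalRing.PrimeSpectrum.comap_residue R k
  have hx : p (τ k) = IsLocalRing.closedPoint R := by rw [← Scheme.Hom.comp_apply, hτ, hres]
  obtain ⟨ho, -, hfin, het, -⟩ := main_local p (τ k) hx
  haveI := ho
  haveI := hfin
  haveI := het
  have hr : Set.range τ ⊆ Set.range (Y.fromSpecStalk (τ k)) := by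
    rintro _ ⟨w, rfl⟩
    rw [Subsingleton.elim w k]
    exact ⟨_, Scheme.fromSpecStalk_closedPoint⟩
  have hτ' := IsOpenImmersion.lift_fac (Y.fromSpecStalk (τ k)) τ hr
  let s₀ : Spec (CommRingCat.of R) := IsLocalRing.closedPoint R
  let φ := Spec.preimage ((Spec (CommRingCat.of R)).fromSpecResidueField s₀)
  have hφ : ∀ a ∈ IsLocalRing.maximalIdeal R, φ.hom a = 0 := by
    intro a ha
    have h1 : Spec.map φ (IsLocalRing.closedPoint _) = s₀ := by
      rw [Spec.map_preimage, Scheme.fromSpecResidueField_apply]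
    have h2 : a ∈ (IsLocalRing.maximalIdeal ((Spec (CommRingCat.of R)).residueField s₀)).comap φ.hom :=
      (congrArg PrimeSpectrum.asIdeal h1).ge ha
    rwa [Ideal.mem_comap, IsLocalRing.maximalIdeal_eq_bot, Ideal.mem_bot] at h2
  let φ' : CommRingCat.of (IsLocalRing.ResidueField R) ⟶ (Spec (CommRingCat.of R)).residueField s₀ :=
    CommRingCat.ofHom (Ideal.Quotient.lift _ φ.hom hφ)
  have hφ' : Spec.map φ' ≫ Spec.map (CommRingCat.ofHom (IsLocalRing.residue R)) =
      (Spec (CommRingCat.of R)).fromSpecResidueField s₀ := by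
    rw [← Spec.map_comp, ← Spec.map_preimage ((Spec (CommRingCat.of R)).fromSpecResidueField s₀)]
    exact congrArg Spec.map (CommRingCat.hom_ext (RingHom.ext fun a => rfl))
  have hfib : ((Y.fromSpecStalk (τ k) ≫ p) ⁻¹' {s₀}).Subsingleton := by
    intro a ha b hb
    have key : ∀ c, (Y.fromSpecStalk (τ k) ≫ p) c = s₀ → Y.fromSpecStalk (τ k) c = τ k := fun c hc => by
      refine eq_of_specializes p (hc.trans hx.symm) ?_
      have h1 : Y.fromSpecStalk (τ k) c ∈ Set.range (Y.fromSpecStalk (τ k)) := ⟨c, rfl⟩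
      rwa [Scheme.range_fromSpecStalk] at h1
    exact (Y.fromSpecStalk (τ k)).isEmbedding.injective ((key a ha).trans (key b hb).symm)
  have hiso := isIso_of_fibre (Y.fromSpecStalk (τ k) ≫ p) s₀ hfib
    (Spec.map φ' ≫ IsOpenImmersion.lift _ τ hr) (by
      rw [Category.assoc, IsOpenImmersion.lift_fac_assoc, hτ, hφ'])
  refine ⟨inv (Y.fromSpecStalk (τ k) ≫ p) ≫ Y.fromSpecStalk (τ k),
    by rw [Category.assoc, IsIso.inv_hom_id], ?_⟩
  have h2 : Spec.map (CommRingCat.ofHom (IsLocalRing.residue R)) =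
      IsOpenImmersion.lift _ τ hr ≫ Y.fromSpecStalk (τ k) ≫ p := by
    rw [IsOpenImmersion.lift_fac_assoc, hτ]
  rw [h2, Category.assoc, IsIso.hom_inv_id_assoc, hτ']

/-- Sections of a separated étale scheme over a henselian local ring are determined on the closed point. -/
theorem eq_of_section_of_etale [IsSeparated p] [Etale p] (σ₁ σ₂ : Spec (CommRingCat.of R) ⟶ Y)
    (h₁ : σ₁ ≫ p = 𝟙 _) (h₂ : σ₂ ≫ p = 𝟙 _)
    (h : Spec.map (CommRingCat.ofHom (IsLocalRing.residue R)) ≫ σ₁ =
      Spec.map (CommRingCat.ofHom (IsLocalRing.residue R)) ≫ σ₂) : σ₁ = σ₂ := by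
  haveI := connectedSpace_spec_local R
  haveI : Nonempty ↥(Spec (CommRingCat.of (IsLocalRing.ResidueField R))) := ⟨IsLocalRing.closedPoint _⟩
  exact EtaleSections.eq_of_connected p σ₁ σ₂ _ h (h₁.trans h₂.symm)

variable (X : Over (Spec (CommRingCat.of R))) (hX : TwC.IsTwConst TwC.Topology.etale X)

include hX in
/-- Every point specialises to a unique point of the closed fibre. -/
theorem existsUnique_closed (y : X.left) :
    ∃! x : X.left, X.hom.base x = IsLocalRing.closedPoint R ∧ y ∈ Set.range (X.left.fromSpecStalk x).base := by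
  haveI := etale X hX
  haveI := isSeparated X hX
  obtain ⟨T, f, hT, hf, ⟨t, ht⟩, ⟨s⟩⟩ := exists_split_affine X hX (IsLocalRing.closedPoint R)
  haveI := hT
  haveI := hf
  haveI : IsSeparated f := inferInstance
  obtain ⟨ho, hc, hfin, het, hsurj⟩ := main_local f t ht
  obtain ⟨v', hv'⟩ := (T.fromSpecStalk t ≫ f).surjective (X.hom y)
  obtain ⟨v, hv, hfv⟩ : ∃ v : T, v ⤳ t ∧ f v = X.hom y :=
    ⟨T.fromSpecStalk t v', by
      have := (IsLocalRing.specializes_closedPoint (R := T.presheaf.stalk t) v').map (T.fromSpecStalk t).continuous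
      rwa [Scheme.fromSpecStalk_closedPoint] at this, hv'⟩
  obtain ⟨z, hz, hz'⟩ := Scheme.Pullback.exists_preimage_pullback (f := X.hom) (g := f) y v hfv.symm
  obtain ⟨i, w, hw⟩ := s.cover z
  have : w = v := by rw [← hz', ← hw, s.apply_σ]
  subst this
  let x := pullback.fst X.hom f (s.σ i t)
  have hx : X.hom x = IsLocalRing.closedPoint R := by
    rw [← Scheme.Hom.comp_apply, pullback.condition, Scheme.Hom.comp_apply, s.apply_σ]
    exact ht
  have hyx : y ⤳ x := by
    rw [← hz, ← hw]
    exact (hv.map (s.σ i).continuous).map (pullback.fst X.hom f).continuous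
  refine ⟨x, ⟨hx, ?_⟩, fun x' hx' => ?_⟩
  · rw [Scheme.range_fromSpecStalk]
    exact hyx
  · obtain ⟨-, hc', hfin', -, -⟩ := main_local X.hom x' hx'.1
    haveI := hfin'
    haveI := hc'
    obtain ⟨a, ha⟩ : x ∈ Set.range (X.left.fromSpecStalk x').base :=
      hyx.mem_closed (X.left.fromSpecStalk x').isClosedEmbedding.isClosed_range hx'.2
    haveI : LocallyQuasiFinite X.hom := UnibranchEtale.locallyQuasiFinite_of_unramified X.hom
    refine (eq_of_specializes X.hom (hx.trans hx'.1.symm) ?_).symm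
    have h1 : x ∈ Set.range (X.left.fromSpecStalk x').base := ⟨a, ha⟩
    rwa [Scheme.range_fromSpecStalk] at h1

include hX in
theorem section_unique_closed (σ₁ σ₂ : Spec (CommRingCat.of R) ⟶ X.left) (h₁ : σ₁ ≫ X.hom = 𝟙 _)
    (h₂ : σ₂ ≫ X.hom = 𝟙 _)
    (h : Spec.map (CommRingCat.ofHom (IsLocalRing.residue R)) ≫ σ₁ =
      Spec.map (CommRingCat.ofHom (IsLocalRing.residue R)) ≫ σ₂) : σ₁ = σ₂ := by
  haveI := etale X hX
  haveI := isSeparated X hX
  haveI := connectedSpace_spec_local R
  haveI : Nonempty ↥(Spec (CommRingCat.of (IsLocalRing.ResidueField R))) := ⟨IsLocalRing.closedPoint _⟩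
  exact EtaleSections.eq_of_connected X.hom σ₁ σ₂ _ h (h₁.trans h₂.symm)

include hX in
theorem exists_section_closed (τ : Spec (CommRingCat.of (IsLocalRing.ResidueField R)) ⟶ X.left)
    (hτ : τ ≫ X.hom = Spec.map (CommRingCat.ofHom (IsLocalRing.residue R))) :
    ∃ σ : Spec (CommRingCat.of R) ⟶ X.left, σ ≫ X.hom = 𝟙 _ ∧
      Spec.map (CommRingCat.ofHom (IsLocalRing.residue R)) ≫ σ = τ := by
  haveI := etale X hX
  haveI := isSeparated X hX
  exact exists_section_of_etale X.hom τ hτ

end Groth.Agent.TwConst
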