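import Groth.Agent.EtaPt.UnivHomeo
import Groth.Agent.TwConst.Basic

/-!
Étale neighbourhoods with trivial residue extension splitting off the finite part of a finite fibre.
-/

set_option autoImplicit false
set_option linter.style.haveILetI false

universe u

open CategoryTheory AlgebraicGeometry Limits TensorProduct TopologicalSpace

namespace Groth.Agent.TwConst

variable {X Y : Scheme.{u}}

theorem bijective_map_of_mapₐ {A B : Type u} [CommRing A] [CommRing B] [Algebra A B]
    (p : Ideal A) [p.IsPrime] (P : Ideal B) [P.IsPrime] (h : p = P.comap (algebraMap A B))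
    (hb : Function.Bijective (Ideal.ResidueField.mapₐ p P (Algebra.ofId A B) h)) :
    Function.Bijective (Ideal.ResidueField.map (P.comap (algebraMap A B)) P (algebraMap A B) rfl) := by
  subst h
  exact hb

set_option backward.defeqAttrib.useBackward true in
set_option backward.isDefEq.respectTransparency false in
/-- A quasi-finite point spreads to an open piece, finite over an étale neighbourhood with trivial
residue extension, with a single point over the neighbourhood's point. -/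
theorem exists_nbhd_point' (f : X ⟶ Y) [LocallyOfFiniteType f]
    {x : X} {y : Y} (h : f x = y) (hx : f.QuasiFiniteAt x) :
    ∃ (U : Scheme.{u}) (g : U ⟶ Y) (u : U), Etale g ∧ g u = y ∧ IsIso (g.residueFieldMap u) ∧
    ∃ V : (pullback f g).Opens, IsFinite (V.ι ≫ pullback.snd f g) ∧
      ∃ v ∈ V, pullback.fst f g v = x ∧ pullback.snd f g v = u ∧
        ∀ w ∈ V, pullback.snd f g w = u → w = v := by
  obtain ⟨_, ⟨U, hU, rfl⟩, hxU, -⟩ := Y.isBasis_affineOpens.exists_subset_of_mem_open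
    (Set.mem_univ (f x)) isOpen_univ
  obtain ⟨_, ⟨V, hV, rfl⟩, hxV, hUV : V ≤ f ⁻¹ᵁ U⟩ :=
    X.isBasis_affineOpens.exists_subset_of_mem_open hxU (f ⁻¹ᵁ U).2
  have : (f.appLE U V hUV).hom.FiniteType := f.finiteType_appLE hU hV hUV
  algebraize [(f.appLE U V hUV).hom]
  have : (hV.primeIdealOf ⟨x, hxV⟩).asIdeal.LiesOver (hU.primeIdealOf ⟨f x, hxU⟩).asIdeal := by
    suffices hU.primeIdealOf ⟨f x, hxU⟩ = Spec.map (f.appLE U V hUV) (hV.primeIdealOf ⟨x, hxV⟩) from
      ⟨congr(($this).1)⟩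
    apply hU.isoSpec.inv.homeomorph.injective
    apply Subtype.ext
    simp only [IsAffineOpen.primeIdealOf, Scheme.Hom.homeomorph_apply,
      ← Scheme.Hom.comp_apply, ← Scheme.Opens.ι_apply, IsAffineOpen.isoSpec_hom]
    simp
  have : Algebra.QuasiFiniteAt Γ(Y, U) (hV.primeIdealOf ⟨x, hxV⟩).asIdeal :=
    hx.quasiFiniteAt hV hU hUV hxV
  obtain ⟨R, _, _, _, P, _, hPo, e, _, P', _, hP'o, hP', heP', hPbij, _, huniq⟩ :=
    Algebra.exists_etale_isIdempotentElem_forall_liesOver_eq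
    (hU.primeIdealOf ⟨f x, hxU⟩).asIdeal (hV.primeIdealOf ⟨x, hxV⟩).asIdeal
  have : (algebraMap R (Localization.Away e)).Finite := RingHom.finite_algebraMap.mpr ‹_›
  let φ : Γ(Y, U) ⟶ .of R := CommRingCat.ofHom <| algebraMap Γ(Y, U) R
  have hφ : φ.hom.Etale := RingHom.etale_algebraMap.mpr ‹_›
  have : Etale (Spec.map φ) := HasRingHomProperty.Spec_iff.mpr hφ
  let e₁ : Spec (.of (R ⊗[Γ(Y, U)] Γ(X, V))) ≅ pullback (Spec.map (f.appLE U V hUV)) (Spec.map φ) :=
    (pullbackSpecIso _ _ _).symm ≪≫ pullbackSymmetry _ _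
  have he₁ : e₁.hom ≫ pullback.fst _ _ =
      Spec.map (CommRingCat.ofHom Algebra.TensorProduct.includeRight.toRingHom) := by
    dsimp [e₁, RingHom.algebraMap_toAlgebra]
    rw [Category.assoc, pullbackSymmetry_hom_comp_fst]
    exact pullbackSpecIso_inv_snd ..
  let g : Spec (.of (R ⊗[Γ(Y, U)] Γ(X, V))) ⟶ pullback f (Spec.map φ ≫ hU.fromSpec) :=
    e₁.hom ≫ pullback.map _ _ _ _ hV.fromSpec (𝟙 _) hU.fromSpec
      (IsAffineOpen.SpecMap_appLE_fromSpec ..) (by simp)
  let W₁ := g ''ᵁ PrimeSpectrum.basicOpen e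
  have : IsFinite (W₁.ι ≫ pullback.snd f _) := by
    let ι : Spec (.of (Localization.Away e)) ⟶ pullback f (Spec.map φ ≫ hU.fromSpec) :=
      Spec.map (CommRingCat.ofHom <| algebraMap _ _) ≫ g
    have : ι.opensRange = W₁ := by
      simp only [Scheme.Hom.opensRange_comp, ι, W₁]
      congr 1
      exact TopologicalSpace.Opens.ext <| PrimeSpectrum.localization_away_comap_range _ _
    rw [← this, ← MorphismProperty.cancel_left_of_respectsIso @IsFinite
      (Scheme.Hom.isoOpensRange _).hom]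
    have H : (pullbackSpecIso _ R _).inv ≫ pullback.fst _ (Spec.map (f.appLE U V hUV)) = _ :=
      pullbackSpecIso_inv_fst ..
    simpa [Scheme.Hom.isoOpensRange, ι, g, e₁, RingHom.algebraMap_toAlgebra, φ, H,
      ← Spec.map_comp, IsFinite.SpecMap_iff]
  have hgy : (Spec.map φ ≫ hU.fromSpec) ⟨P, ‹_›⟩ = y := by
    dsimp [Spec.map_apply]
    convert! hU.fromSpec_primeIdealOf ⟨f x, hxU⟩
    · exact PrimeSpectrum.ext (Ideal.over_def _ _).symm
    · simp [h]
  have hres : IsIso ((Spec.map φ ≫ hU.fromSpec).residueFieldMap ⟨P, ‹_›⟩) := by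
    rw [Scheme.residueFieldMap_comp]
    haveI : IsIso ((Spec.map φ).residueFieldMap ⟨P, ‹_›⟩) :=
      (Groth.Agent.EtaPtLib.bijective_residueField_map_iff' φ ⟨P, ‹_›⟩).2 (bijective_map_of_mapₐ _ P _ hPbij)
    infer_instance
  have H : g ≫ pullback.snd f _ = Spec.map (CommRingCat.ofHom (algebraMap R (R ⊗[Γ(Y, U)] Γ(X, V)))) := by
    have he₂ : e₁.hom ≫ pullback.snd _ _ =
        Spec.map (CommRingCat.ofHom (algebraMap R (R ⊗[Γ(Y, U)] Γ(X, V)))) := by
      dsimp [e₁, RingHom.algebraMap_toAlgebra]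
      rw [Category.assoc, pullbackSymmetry_hom_comp_snd]
      exact pullbackSpecIso_inv_fst ..
    simp only [g, Category.assoc, limit.lift_π, PullbackCone.mk_π_app, Category.comp_id]
    exact he₂
  refine ⟨Spec (.of R), Spec.map φ ≫ hU.fromSpec, ⟨P, ‹_›⟩, inferInstance, hgy, hres, W₁,
    ‹_›, g ⟨P', ‹_›⟩, ⟨⟨P', ‹_›⟩, heP', rfl⟩, ?_, ?_, ?_⟩
  · trans hV.fromSpec ⟨P'.comap Algebra.TensorProduct.includeRight.toRingHom, inferInstance⟩
    · simp [← Scheme.Hom.comp_apply, -Scheme.Hom.comp_base, g, reassoc_of% he₁]; rfl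
    convert! hV.fromSpec_primeIdealOf ⟨x, hxV⟩
  · rw [← Scheme.Hom.comp_apply, H]
    exact PrimeSpectrum.ext hP'o.over.symm
  · rintro _ ⟨⟨P'', hP''⟩, he'', rfl⟩ hw
    have hw' : (Spec.map (CommRingCat.ofHom (algebraMap R (R ⊗[Γ(Y, U)] Γ(X, V))))) ⟨P'', hP''⟩ = ⟨P, ‹_›⟩ := by
      rw [← H, Scheme.Hom.comp_apply]; exact hw
    exact congrArg g (PrimeSpectrum.ext (huniq P'' hP'' ⟨(congrArg PrimeSpectrum.asIdeal hw').symm⟩ he''))

/-- A quasi-finite point spreads to a finite clopen piece over an étale neighbourhood with trivial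
residue extension. -/
theorem exists_nbhd_point (f : X ⟶ Y) [LocallyOfFiniteType f] [IsSeparated f]
    {x : X} {y : Y} (h : f x = y) (hx : f.QuasiFiniteAt x) :
    ∃ (U : Scheme.{u}) (g : U ⟶ Y) (u : U), Etale g ∧ g u = y ∧ IsIso (g.residueFieldMap u) ∧
    ∃ V : (pullback f g).Opens, IsClosed (V : Set ↥(pullback f g)) ∧
      IsFinite (V.ι ≫ pullback.snd f g) ∧
      ∃ v ∈ V, pullback.fst f g v = x ∧ pullback.snd f g v = u := by
  obtain ⟨U, g, u, h1, h2, h3, V, hV, v, h4, h5, h6, -⟩ := exists_nbhd_point' f h hx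
  haveI : IsFinite V.ι := .of_comp _ (pullback.snd f g)
  exact ⟨U, g, u, h1, h2, h3, V, by simpa using V.ι.isClosedMap.isClosed_range, hV, v, h4, h5, h6⟩

/-- Over a point with trivial residue extension, the fibre maps injectively. -/
theorem eq_of_fst_eq {Y' : Scheme.{u}} (f : X ⟶ Y) (g : Y' ⟶ Y) (y' : Y') [IsIso (g.residueFieldMap y')]
    {a b : ↥(pullback f g)} (ha : pullback.snd f g a = y') (hb : pullback.snd f g b = y')
    (hab : pullback.fst f g a = pullback.fst f g b) : a = b := by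
  let j := Y'.fromSpecResidueField y'
  obtain ⟨a', rfl⟩ : a ∈ Set.range (pullback.fst (pullback.snd f g) j) := by
    rw [Scheme.Pullback.range_fst, Scheme.range_fromSpecResidueField]; exact ha
  obtain ⟨b', rfl⟩ : b ∈ Set.range (pullback.fst (pullback.snd f g) j) := by
    rw [Scheme.Pullback.range_fst, Scheme.range_fromSpecResidueField]; exact hb
  haveI : IsPreimmersion (j ≫ g) := by
    simp only [j]
    rw [← Scheme.Hom.SpecMap_residueFieldMap_fromSpecResidueField]
    infer_instance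
  have h1 := hab
  rw [← Scheme.Hom.comp_apply, ← Scheme.Hom.comp_apply, ← pullbackLeftPullbackSndIso_hom_fst,
    Scheme.Hom.comp_apply, Scheme.Hom.comp_apply] at h1
  exact congrArg _ ((pullbackLeftPullbackSndIso f g j).hom.homeomorph.injective
    ((pullback.fst f (j ≫ g)).isEmbedding.injective h1))

/-- A union of two clopen subschemes finite over the base is finite over the base. -/
theorem isFinite_sup (p : X ⟶ Y) [IsSeparated p] [LocallyOfFiniteType p] (W₁ W₂ : X.Opens)
    [IsFinite (W₁.ι ≫ p)] [IsFinite (W₂.ι ≫ p)] : IsFinite ((W₁ ⊔ W₂).ι ≫ p) := by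
  let q : W₁.toScheme ⨿ W₂.toScheme ⟶ (W₁ ⊔ W₂).toScheme :=
    coprod.desc (X.homOfLE le_sup_left) (X.homOfLE le_sup_right)
  have hp : q ≫ (W₁ ⊔ W₂).ι ≫ p = coprod.desc (W₁.ι ≫ p) (W₂.ι ≫ p) := by
    apply coprod.hom_ext
    · rw [coprod.inl_desc, ← Category.assoc, coprod.inl_desc, ← Category.assoc, Scheme.homOfLE_ι]
    · rw [coprod.inr_desc, ← Category.assoc, coprod.inr_desc, ← Category.assoc, Scheme.homOfLE_ι]
  haveI : IsFinite (q ≫ (W₁ ⊔ W₂).ι ≫ p) := by rw [hp]; infer_instance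
  haveI : Surjective q := ⟨fun w => by
    rcases (Opens.mem_sup.1 w.2) with h | h
    · refine ⟨(coprod.inl : W₁.toScheme ⟶ W₁.toScheme ⨿ W₂.toScheme) ⟨w.1, h⟩, ?_⟩
      rw [← Scheme.Hom.comp_apply, coprod.inl_desc]
      exact Subtype.ext (by rw [Scheme.homOfLE_apply])
    · refine ⟨(coprod.inr : W₂.toScheme ⟶ W₁.toScheme ⨿ W₂.toScheme) ⟨w.1, h⟩, ?_⟩
      rw [← Scheme.Hom.comp_apply, coprod.inr_desc]
      exact Subtype.ext (by rw [Scheme.homOfLE_apply])⟩
  haveI : LocallyQuasiFinite ((W₁ ⊔ W₂).ι ≫ p) := by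
    refine LocallyQuasiFinite.of_finite_preimage_singleton _ fun y => ?_
    refine (((q ≫ (W₁ ⊔ W₂).ι ≫ p).finite_preimage_singleton y).image q).subset fun w hw => ?_
    obtain ⟨z, rfl⟩ := q.surjective w
    exact ⟨z, hw, rfl⟩
  haveI : UniversallyClosed ((W₁ ⊔ W₂).ι ≫ p) := UniversallyClosed.of_comp_surjective q _
  haveI : IsProper ((W₁ ⊔ W₂).ι ≫ p) := {}
  exact IsFinite.of_isProper_of_locallyQuasiFinite _

/-- The finite part of a finite fibre after an étale base change with trivial residue extension. -/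
theorem exists_nbhd_finite_fibre (f : X ⟶ Y) [LocallyOfFiniteType f] [IsSeparated f] (y : Y)
    (hfin : (f ⁻¹' {y}).Finite) :
    ∃ (Y' : Scheme.{u}) (g : Y' ⟶ Y) (y' : Y'), Etale g ∧ g y' = y ∧ IsIso (g.residueFieldMap y') ∧
      ∃ V : (pullback f g).Opens, IsClosed (V : Set ↥(pullback f g)) ∧
        IsFinite (V.ι ≫ pullback.snd f g) ∧
        ∀ z : ↥(pullback f g), pullback.snd f g z = y' → z ∈ V := by
  classical
  suffices H : ∀ s : Finset X, (∀ x ∈ s, f x = y) →
      ∃ (Y' : Scheme.{u}) (g : Y' ⟶ Y) (y' : Y'), Etale g ∧ g y' = y ∧ IsIso (g.residueFieldMap y') ∧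
        ∃ V : (pullback f g).Opens, IsClosed (V : Set ↥(pullback f g)) ∧
          IsFinite (V.ι ≫ pullback.snd f g) ∧
          ∀ z : ↥(pullback f g), pullback.snd f g z = y' → pullback.fst f g z ∈ s → z ∈ V by
    obtain ⟨Y', g, y', h1, h2, h3, V, h4, h5, h6⟩ := H hfin.toFinset fun x hx => hfin.mem_toFinset.1 hx
    refine ⟨Y', g, y', h1, h2, h3, V, h4, h5, fun z hz => h6 z hz (hfin.mem_toFinset.2 ?_)⟩
    change f (pullback.fst f g z) = y
    rw [← Scheme.Hom.comp_apply, pullback.condition, Scheme.Hom.comp_apply, hz, h2]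
  intro s hs
  induction s using Finset.induction_on with
  | empty =>
    haveI : IsEmpty (⊥ : (pullback f (𝟙 Y)).Opens).toScheme := ⟨fun x => x.2⟩
    exact ⟨Y, 𝟙 Y, y, inferInstance, rfl, inferInstance, ⊥, by simp, inferInstance, by simp⟩
  | insert x s hxs ih =>
    obtain ⟨Y₁, g₁, y₁, hg₁, hy₁, hr₁, V₁, hV₁c, hV₁f, hV₁⟩ := ih fun a ha => hs a (Finset.mem_insert_of_mem ha)
    haveI := hr₁
    obtain ⟨x₁, hx₁f, hx₁s⟩ := Scheme.Pullback.exists_preimage_pullback (f := f) (g := g₁) x y₁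
      ((hs x (Finset.mem_insert_self x s)).trans hy₁.symm)
    haveI : Finite ↥((pullback.snd f g₁).fiber (pullback.snd f g₁ x₁)) := by
      have hfib : ((pullback.snd f g₁) ⁻¹' {y₁}).Finite := by
        refine Set.Finite.of_finite_image (f := pullback.fst f g₁) (hfin.subset ?_) fun a ha b hb hab => eq_of_fst_eq f g₁ y₁ ha hb hab
        rintro _ ⟨z, hz, rfl⟩
        change f (pullback.fst f g₁ z) = y
        rw [← Scheme.Hom.comp_apply, pullback.condition, Scheme.Hom.comp_apply]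
        exact (congrArg g₁ hz).trans hy₁
      rw [hx₁s]
      haveI := hfib.to_subtype
      exact Finite.of_equiv _ ((pullback.snd f g₁).fiberHomeo y₁).symm.toEquiv
    have hqf : (pullback.snd f g₁).QuasiFiniteAt x₁ :=
      Scheme.Hom.quasiFiniteAt_iff_isOpen_singleton_asFiber.2 (isOpen_discrete _)
    obtain ⟨Y₂, g₂, y₂, hg₂, hy₂, hr₂, V₂, hV₂c, hV₂f, v, hvV, hv₁, hv₂⟩ :=
      exists_nbhd_point (pullback.snd f g₁) hx₁s hqf
    let π := pullback.fst (pullback.snd f g₁) g₂
    haveI := hV₁f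
    haveI := hV₂f
    haveI : IsFinite ((π ⁻¹ᵁ V₁).ι ≫ pullback.snd (pullback.snd f g₁) g₂) :=
      MorphismProperty.of_isPullback (P := @IsFinite)
        ((isPullback_morphismRestrict π V₁).paste_vert (IsPullback.of_hasPullback (pullback.snd f g₁) g₂)) hV₁f
    haveI : IsFinite (((π ⁻¹ᵁ V₁) ⊔ V₂).ι ≫ pullback.snd (pullback.snd f g₁) g₂) := isFinite_sup _ _ _
    let e := pullbackLeftPullbackSndIso f g₁ g₂
    haveI := hg₁
    haveI := hg₂
    haveI := hr₂
    haveI hr : IsIso ((g₂ ≫ g₁).residueFieldMap y₂) := by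
      haveI : IsIso (g₁.residueFieldMap (g₂ y₂)) := by rw [hy₂]; exact hr₁
      rw [Scheme.residueFieldMap_comp]
      exact @IsIso.comp_isIso _ _ _ _ _ _ _ this hr₂
    refine ⟨Y₂, g₂ ≫ g₁, y₂, inferInstance, by rw [Scheme.Hom.comp_apply, hy₂, hy₁], hr,
      e.inv ⁻¹ᵁ ((π ⁻¹ᵁ V₁) ⊔ V₂), ?_, ?_, fun z hz hzs => ?_⟩
    · change IsClosed (e.inv ⁻¹' (((π ⁻¹ᵁ V₁) ⊔ V₂ : Opens _) : Set _))
      refine IsClosed.preimage e.inv.continuous ?_
      rw [Opens.coe_sup]
      exact (hV₁c.preimage π.continuous).union hV₂c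
    · have h2 : (e.inv ⁻¹ᵁ ((π ⁻¹ᵁ V₁) ⊔ V₂)).ι ≫ pullback.snd f (g₂ ≫ g₁) =
          (e.inv ∣_ ((π ⁻¹ᵁ V₁) ⊔ V₂)) ≫ ((π ⁻¹ᵁ V₁) ⊔ V₂).ι ≫ pullback.snd (pullback.snd f g₁) g₂ := by
        rw [← Category.assoc, morphismRestrict_ι, Category.assoc]
        congr 1
        rw [Iso.eq_inv_comp, pullbackLeftPullbackSndIso_hom_snd]
      rw [h2]
      infer_instance
    · have hz' : pullback.snd (pullback.snd f g₁) g₂ (e.inv z) = y₂ := by
        rw [← Scheme.Hom.comp_apply, ← pullbackLeftPullbackSndIso_hom_snd f g₁ g₂, Iso.inv_hom_id_assoc, hz]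
      have hzf : pullback.fst f g₁ (π (e.inv z)) = pullback.fst f (g₂ ≫ g₁) z := by
        rw [← Scheme.Hom.comp_apply, ← Scheme.Hom.comp_apply]
        simp only [π, e, Category.assoc, ← pullbackLeftPullbackSndIso_hom_fst, Iso.inv_hom_id_assoc]
      have hzy : pullback.snd f g₁ (π (e.inv z)) = y₁ := by
        rw [← Scheme.Hom.comp_apply, pullback.condition, Scheme.Hom.comp_apply, hz', hy₂]
      rcases Finset.mem_insert.1 hzs with h | h
      · refine Or.inr ?_
        have : π (e.inv z) = x₁ := eq_of_fst_eq f g₁ y₁ hzy hx₁s (by rw [hzf, h, hx₁f])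
        exact eq_of_fst_eq (pullback.snd f g₁) g₂ y₂ hz' hv₂ (this.trans hv₁.symm) ▸ hvV
      · exact Or.inl (hV₁ _ hzy (hzf ▸ h))

/-- Over a point with trivial residue extension, the projection has trivial residue extension. -/
theorem bijective_residueFieldMap_fst {Y' : Scheme.{u}} (f : X ⟶ Y) (g : Y' ⟶ Y) (y' : Y')
    [IsIso (g.residueFieldMap y')] {v : ↥(pullback f g)} (hv : pullback.snd f g v = y') :
    Function.Bijective ((pullback.fst f g).residueFieldMap v) := by
  set x := pullback.fst f g v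
  have hx : f x = g y' := by
    rw [← hv, ← Scheme.Hom.comp_apply, ← Scheme.Hom.comp_apply, pullback.condition]
  let b : Spec (X.residueField x) ⟶ Y' :=
    Spec.map ((Y.residueFieldCongr hx.symm).hom ≫ f.residueFieldMap x) ≫
      Spec.map (inv (g.residueFieldMap y')) ≫ Y'.fromSpecResidueField y'
  have hb : X.fromSpecResidueField x ≫ f = b ≫ g := by
    simp only [b, Category.assoc]
    rw [← Scheme.Hom.SpecMap_residueFieldMap_fromSpecResidueField g y', ← Category.assoc (Spec.map (inv _)),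
      ← Spec.map_comp, IsIso.hom_inv_id, Spec.map_id, Category.id_comp, Spec.map_comp, Category.assoc,
      Scheme.residueFieldCongr_fromSpecResidueField, Scheme.Hom.SpecMap_residueFieldMap_fromSpecResidueField]
  let a := pullback.lift (X.fromSpecResidueField x) b hb
  let o : Spec (X.residueField x) := IsLocalRing.closedPoint _
  have ha : a o = v := by
    refine eq_of_fst_eq f g y' ?_ hv ?_
    · rw [← Scheme.Hom.comp_apply, pullback.lift_snd]
      simp only [b, Scheme.Hom.comp_apply]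
      exact Scheme.fromSpecResidueField_apply _ _
    · rw [← Scheme.Hom.comp_apply, pullback.lift_fst]
      exact Scheme.fromSpecResidueField_apply _ _
  obtain ⟨σ, hσ⟩ : ∃ σ, a = Spec.map σ ≫ (pullback f g).fromSpecResidueField v := by
    rw [← ha]
    exact ⟨_, (Scheme.descResidueField_stalkClosedPointTo_fromSpecResidueField (X.residueField x) _ a).symm⟩
  have h1 : (pullback.fst f g).residueFieldMap v ≫ σ = 𝟙 _ := by
    have h2 : a ≫ pullback.fst f g = X.fromSpecResidueField x := pullback.lift_fst _ _ _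
    rw [hσ, Category.assoc, ← Scheme.Hom.SpecMap_residueFieldMap_fromSpecResidueField, ← Category.assoc,
      ← Spec.map_comp] at h2
    nth_rewrite 2 [← Category.id_comp (X.fromSpecResidueField x)] at h2
    rw [cancel_mono, ← Spec.map_id, Spec.map_inj] at h2
    exact h2
  refine ⟨((pullback.fst f g).residueFieldMap v).hom.injective, fun z => ⟨σ z, σ.hom.injective ?_⟩⟩
  exact RingHom.congr_fun (congrArg CommRingCat.Hom.hom h1) (σ z)

/-- Finitely many elementary étale neighbourhoods have a common refinement. -/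
theorem exists_common_nbhd {ι : Type} [Finite ι] (s : Y) (U : ι → Scheme.{u}) (g : ∀ i, U i ⟶ Y)
    (w : ∀ i, U i) (hg : ∀ i, Etale (g i)) (hw : ∀ i, g i (w i) = s) (hr : ∀ i, IsIso ((g i).residueFieldMap (w i))) :
    ∃ (U' : Scheme.{u}) (g' : U' ⟶ Y) (u' : U'), Etale g' ∧ g' u' = s ∧ IsIso (g'.residueFieldMap u') ∧
      ∀ i, ∃ π : U' ⟶ U i, π ≫ g i = g' ∧ π u' = w i := by
  classical
  haveI := Fintype.ofFinite ι
  suffices H : ∀ t : Finset ι, ∃ (U' : Scheme.{u}) (g' : U' ⟶ Y) (u' : U'), Etale g' ∧ g' u' = s ∧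
      IsIso (g'.residueFieldMap u') ∧ ∀ i ∈ t, ∃ π : U' ⟶ U i, π ≫ g i = g' ∧ π u' = w i by
    obtain ⟨U', g', u', h1, h2, h3, h4⟩ := H Finset.univ
    exact ⟨U', g', u', h1, h2, h3, fun i => h4 i (Finset.mem_univ i)⟩
  intro t
  induction t using Finset.induction_on with
  | empty => exact ⟨Y, 𝟙 Y, s, inferInstance, rfl, inferInstance, by simp⟩
  | insert j t _ ih =>
    obtain ⟨U₁, g₁, u₁, h1, h2, h3, h4⟩ := ih
    haveI := h1
    haveI := h3
    haveI := hg j
    obtain ⟨z, hz₁, hz₂⟩ := Scheme.Pullback.exists_preimage_pullback (f := g j) (g := g₁) (w j) u₁ ((hw j).trans h2.symm)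
    refine ⟨pullback (g j) g₁, pullback.fst (g j) g₁ ≫ g j, z, inferInstance, ?_, ?_, ?_⟩
    · rw [Scheme.Hom.comp_apply, hz₁, hw]
    · rw [Scheme.residueFieldMap_comp]
      haveI : IsIso ((pullback.fst (g j) g₁).residueFieldMap z) :=
        (ConcreteCategory.isIso_iff_bijective _).2 (bijective_residueFieldMap_fst (g j) g₁ u₁ hz₂)
      have h5 : IsIso ((g j).residueFieldMap (pullback.fst (g j) g₁ z)) := by rw [hz₁]; exact hr j
      exact @IsIso.comp_isIso _ _ _ _ _ _ _ h5 this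
    · intro i hi
      rcases Finset.mem_insert.1 hi with rfl | hi
      · exact ⟨pullback.fst _ _, rfl, hz₁⟩
      · obtain ⟨π, hπ, hπu⟩ := h4 i hi
        exact ⟨pullback.snd (g j) g₁ ≫ π, by rw [Category.assoc, hπ, pullback.condition],
          by rw [Scheme.Hom.comp_apply, hz₂, hπu]⟩

/-- Pieces finite over elementary étale neighbourhoods of finitely many quasi-finite points of a fibre. -/
theorem exists_nbhd_points {ι : Type} [Finite ι] (f : X ⟶ Y) [LocallyOfFiniteType f] (s : Y)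
    (x : ι → X) (hs : ∀ i, f (x i) = s) (hx : ∀ i, f.QuasiFiniteAt (x i)) :
    ∃ (U : Scheme.{u}) (g : U ⟶ Y) (u : U), Etale g ∧ g u = s ∧ IsIso (g.residueFieldMap u) ∧
      ∃ (V : ι → (pullback f g).Opens) (v : ι → ↥(pullback f g)), ∀ i, v i ∈ V i ∧
        IsFinite ((V i).ι ≫ pullback.snd f g) ∧ pullback.snd f g (v i) = u ∧
        (∀ w : ↥(pullback f g), w ∈ V i → pullback.snd f g w = u → w = v i) ∧ pullback.fst f g (v i) = x i := by
  choose U g w hg hw hr V hVf v hvV hv₁ hv₂ huniq using fun i => exists_nbhd_point' f (hs i) (hx i)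
  obtain ⟨U', g', u', h1, h2, h3, h4⟩ := exists_common_nbhd s U g w hg hw hr
  choose π hπ hπu using h4
  haveI := h3
  let m : ∀ i, pullback f g' ⟶ pullback f (g i) := fun i =>
    pullback.lift (pullback.fst f g') (pullback.snd f g' ≫ π i) (by rw [pullback.condition, Category.assoc, hπ])
  have hm₁ : ∀ i, m i ≫ pullback.fst f (g i) = pullback.fst f g' := fun i => pullback.lift_fst _ _ _
  have hm₂ : ∀ i, m i ≫ pullback.snd f (g i) = pullback.snd f g' ≫ π i := fun i => pullback.lift_snd _ _ _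
  have hm : ∀ i, IsPullback (m i) (pullback.snd f g') (pullback.snd f (g i)) (π i) := fun i =>
    IsPullback.of_right (h₁₂ := pullback.fst f (g i)) (v₁₃ := f) (h₂₂ := g i)
      (by rw [hm₁, hπ]; exact IsPullback.of_hasPullback f g') (hm₂ i) (IsPullback.of_hasPullback f (g i))
  choose z hz₁ hz₂ using fun i => Scheme.Pullback.exists_preimage_pullback (f := f) (g := g') (x i) u' ((hs i).trans h2.symm)
  have key : ∀ i (a : ↥(pullback f g')), pullback.snd f g' a = u' → pullback.snd f (g i) (m i a) = w i := by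
    intro i a ha
    rw [← Scheme.Hom.comp_apply, hm₂, Scheme.Hom.comp_apply, ha, hπu]
  refine ⟨U', g', u', h1, h2, h3, fun i => m i ⁻¹ᵁ V i, z, fun i => ⟨?_, ?_, hz₂ i, ?_, hz₁ i⟩⟩
  · haveI := hr i
    change m i (z i) ∈ V i
    have : m i (z i) = v i := eq_of_fst_eq f (g i) (w i) (key i _ (hz₂ i)) (hv₂ i)
      (by rw [← Scheme.Hom.comp_apply, hm₁, hz₁, hv₁])
    rw [this]
    exact hvV i
  · exact MorphismProperty.of_isPullback (P := @IsFinite)
      ((isPullback_morphismRestrict (m i) (V i)).paste_vert (hm i)) (hVf i)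
  · intro a ha hau
    refine eq_of_fst_eq f g' u' hau (hz₂ i) ?_
    rw [hz₁, ← hm₁ i, Scheme.Hom.comp_apply, huniq i _ ha (key i a hau), hv₁]

end Groth.Agent.TwConst
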