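import Groth.Agent.TwConst.Henselian

/-!
The finite part of a separated quasi-finite scheme over a henselian local ring.
-/

set_option autoImplicit false
set_option linter.style.haveILetI false

universe u

open CategoryTheory AlgebraicGeometry Limits MorphismProperty TopologicalSpace

namespace Groth.Agent.TwConst

variable {R : Type u} [CommRing R] {X : Scheme.{u}} (f : X ⟶ Spec (CommRingCat.of R))

/-- Every point of a finite clopen piece specializes to a point over the closed point. -/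
theorem exists_closed_specialization [IsLocalRing R] (W : X.Opens) [IsFinite (W.ι ≫ f)] {w : X}
    (hw : w ∈ W) : ∃ x, w ⤳ x ∧ x ∈ W ∧ f x = IsLocalRing.closedPoint R := by
  obtain ⟨b, hb, hfb⟩ := (W.ι ≫ f).isClosedMap.specializingMap
    (show (W.ι ≫ f) ⟨w, hw⟩ ⤳ IsLocalRing.closedPoint R from IsLocalRing.specializes_closedPoint (R := R) _)
  exact ⟨b.1, hb.map W.ι.continuous, b.2, hfb⟩

theorem finitePart_le [IsLocalRing R] (W W' : X.Opens) [IsFinite (W.ι ≫ f)]
    (h' : ∀ x : X, f x = IsLocalRing.closedPoint R → x ∈ W') : W ≤ W' := fun _ hw => by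
  obtain ⟨x, hx, -, hfx⟩ := exists_closed_specialization f W hw
  exact hx.mem_open W'.2 (h' x hfx)

/-- A finite clopen piece: closed, and finite over the base. -/
def IsFinitePiece (W : X.Opens) : Prop := IsClosed (W : Set X) ∧ IsFinite (W.ι ≫ f)

theorem isFinitePiece_bot : IsFinitePiece f ⊥ := by
  haveI : IsEmpty (⊥ : X.Opens).toScheme := ⟨fun x => x.2⟩
  exact ⟨by simp, inferInstance⟩

theorem isFinitePiece_sup [IsSeparated f] [LocallyQuasiFinite f] [LocallyOfFiniteType f] {W₁ W₂ : X.Opens}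
    (h₁ : IsFinitePiece f W₁) (h₂ : IsFinitePiece f W₂) : IsFinitePiece f (W₁ ⊔ W₂) := by
  refine ⟨by rw [Opens.coe_sup]; exact h₁.1.union h₂.1, ?_⟩
  haveI := h₁.2
  haveI := h₂.2
  let p : W₁.toScheme ⨿ W₂.toScheme ⟶ (W₁ ⊔ W₂).toScheme :=
    coprod.desc (X.homOfLE le_sup_left) (X.homOfLE le_sup_right)
  have hp : p ≫ (W₁ ⊔ W₂).ι ≫ f = coprod.desc (W₁.ι ≫ f) (W₂.ι ≫ f) := by
    apply coprod.hom_ext
    · rw [coprod.inl_desc, ← Category.assoc, coprod.inl_desc, ← Category.assoc, Scheme.homOfLE_ι]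
    · rw [coprod.inr_desc, ← Category.assoc, coprod.inr_desc, ← Category.assoc, Scheme.homOfLE_ι]
  haveI : IsFinite (p ≫ (W₁ ⊔ W₂).ι ≫ f) := by rw [hp]; infer_instance
  haveI : Surjective p := ⟨fun w => by
    rcases (Opens.mem_sup.1 w.2) with h | h
    · refine ⟨(coprod.inl : W₁.toScheme ⟶ W₁.toScheme ⨿ W₂.toScheme) ⟨w.1, h⟩, ?_⟩
      rw [← Scheme.Hom.comp_apply, coprod.inl_desc]
      exact Subtype.ext (by rw [Scheme.homOfLE_apply])
    · refine ⟨(coprod.inr : W₂.toScheme ⟶ W₁.toScheme ⨿ W₂.toScheme) ⟨w.1, h⟩, ?_⟩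
      rw [← Scheme.Hom.comp_apply, coprod.inr_desc]
      exact Subtype.ext (by rw [Scheme.homOfLE_apply])⟩
  haveI : UniversallyClosed ((W₁ ⊔ W₂).ι ≫ f) := UniversallyClosed.of_comp_surjective p _
  haveI : IsProper ((W₁ ⊔ W₂).ι ≫ f) := {}
  exact IsFinite.of_isProper_of_locallyQuasiFinite _

/-- A quasi-finite point over the closed point lies in a finite piece. -/
theorem exists_finitePiece [HenselianLocalRing R] [IsSeparated f] [LocallyQuasiFinite f]
    [LocallyOfFiniteType f] (x : X) (hx : f x = IsLocalRing.closedPoint R) :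
    ∃ W : X.Opens, IsFinitePiece f W ∧ x ∈ W := by
  obtain ⟨A, hA, hxA, -⟩ := exists_isAffineOpen_mem_and_subset (U := ⊤) (x := x) trivial
  let ψ : CommRingCat.of R ⟶ Γ(X, A) := Spec.preimage (hA.fromSpec ≫ f)
  have hψ : Spec.map ψ = hA.fromSpec ≫ f := Spec.map_preimage _
  have hft : ψ.hom.FiniteType := by
    rw [← HasRingHomProperty.Spec_iff (P := @LocallyOfFiniteType), hψ]; infer_instance
  have hqf : ψ.hom.QuasiFinite := by
    rw [← HasRingHomProperty.Spec_iff (P := @LocallyQuasiFinite), hψ]; infer_instance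
  letI := ψ.hom.toAlgebra
  haveI : Algebra.FiniteType R Γ(X, A) := hft
  haveI : Algebra.QuasiFinite R Γ(X, A) := hqf
  set q := (hA.primeIdealOf ⟨x, hxA⟩).asIdeal
  haveI : q.LiesOver (IsLocalRing.maximalIdeal R) := ⟨by
    have h : Spec.map ψ (hA.primeIdealOf ⟨x, hxA⟩) = IsLocalRing.closedPoint R := by
      rw [hψ, Scheme.Hom.comp_apply, hA.fromSpec_primeIdealOf, hx]
    exact (congrArg PrimeSpectrum.asIdeal h).symm⟩
  obtain ⟨e, he, hfin, heq⟩ := Hensel.exists_idempotent_notMem R Γ(X, A) q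
  let I : Ideal Γ(X, A) := Ideal.span {1 - e}
  let π : Γ(X, A) ⟶ CommRingCat.of (Γ(X, A) ⧸ I) := CommRingCat.ofHom (Ideal.Quotient.mk I)
  haveI : IsLocalization.Away e (Γ(X, A) ⧸ I) :=
    IsLocalization.away_of_isIdempotentElem he Ideal.mk_ker Ideal.Quotient.mk_surjective
  haveI : IsOpenImmersion (Spec.map π) := IsOpenImmersion.of_isLocalization e
  let j : Spec (CommRingCat.of (Γ(X, A) ⧸ I)) ⟶ X := Spec.map π ≫ hA.fromSpec
  haveI : IsFinite (j ≫ f) := by
    rw [Category.assoc, ← hψ, ← Spec.map_comp, IsFinite.SpecMap_iff]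
    change (algebraMap R (Γ(X, A) ⧸ I)).Finite
    exact RingHom.finite_algebraMap.2 hfin
  haveI : UniversallyClosed j := UniversallyClosed.of_comp_of_isSeparated j f
  refine ⟨j.opensRange, ⟨by rw [Scheme.Hom.coe_opensRange]; exact j.isClosedMap.isClosed_range, ?_⟩, ?_⟩
  · rw [← MorphismProperty.cancel_left_of_respectsIso @IsFinite j.isoOpensRange.hom, ← Category.assoc,
      Scheme.Hom.isoOpensRange_hom_ι]
    infer_instance
  · have hmem : hA.primeIdealOf ⟨x, hxA⟩ ∈ Set.range (Spec.map π) := by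
      have h1 : Set.range (PrimeSpectrum.comap (algebraMap Γ(X, A) (Γ(X, A) ⧸ I))) =
          (PrimeSpectrum.basicOpen e : Set _) := PrimeSpectrum.localization_away_comap_range _ e
      exact h1.ge heq
    obtain ⟨t, ht⟩ := hmem
    refine ⟨t, ?_⟩
    change hA.fromSpec (Spec.map π t) = x
    rw [ht, hA.fromSpec_primeIdealOf]

/-- The finite part of a separated quasi-finite scheme over a henselian local ring. -/
theorem existsUnique_finitePart [HenselianLocalRing R] [IsSeparated f] [LocallyQuasiFinite f]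
    [LocallyOfFiniteType f] [QuasiCompact f] :
    ∃! W : X.Opens, IsClosed (W : Set X) ∧ IsFinite (W.ι ≫ f) ∧
      ∀ x : X, f x = IsLocalRing.closedPoint R → x ∈ W := by
  classical
  have hfib := f.finite_preimage_singleton (IsLocalRing.closedPoint R)
  choose W hW hxW using fun x : ↥(f ⁻¹' {IsLocalRing.closedPoint R}) => exists_finitePiece f x.1 x.2
  have hind : ∀ s : Finset ↥(f ⁻¹' {IsLocalRing.closedPoint R}), IsFinitePiece f (s.sup W) := fun s => by
    induction s using Finset.induction_on with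
    | empty => exact isFinitePiece_bot f
    | insert a s _ ih => rw [Finset.sup_insert]; exact isFinitePiece_sup f (hW a) ih
  haveI := hfib.to_subtype
  letI := Fintype.ofFinite ↥(f ⁻¹' {IsLocalRing.closedPoint R})
  have hmem : ∀ x, f x = IsLocalRing.closedPoint R → x ∈ Finset.univ.sup W := fun x hx =>
    (Finset.le_sup (f := W) (Finset.mem_univ ⟨x, hx⟩)) (hxW _)
  refine ⟨_, ⟨(hind _).1, (hind _).2, hmem⟩, fun W' ⟨_, hf', hm'⟩ => ?_⟩
  haveI := hf'
  haveI := (hind Finset.univ).2
  exact le_antisymm (finitePart_le f _ _ hmem) (finitePart_le f _ _ hm')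

end Groth.Agent.TwConst
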