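import Groth.Agent.TwConst.StrongNbhd
import Groth.Agent.EtaleSections.Basic
import Groth.Agent.EtaleSections.Finite

/-!
Finite unramified morphisms with one rational point over a point are closed immersions nearby; étale
neighbourhoods splitting unramified points.
-/

set_option autoImplicit false
set_option linter.style.haveILetI false

universe u

open CategoryTheory AlgebraicGeometry Limits TensorProduct TopologicalSpace

namespace Groth.Agent.TwConst

variable {X S : Scheme.{u}}

/-- The fibre over a point with one point and trivial residue extension is trivial. -/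
theorem isIso_snd_residueField (p : X ⟶ S) [IsSeparated p] [LocallyOfFiniteType p] [FormallyUnramified p]
    (s : S) (hsub : (p ⁻¹' {s}).Subsingleton) (a : Spec (S.residueField s) ⟶ X)
    (ha : a ≫ p = S.fromSpecResidueField s) : IsIso (pullback.snd p (S.fromSpecResidueField s)) := by
  let a' : Spec (S.residueField s) ⟶ pullback p (S.fromSpecResidueField s) :=
    pullback.lift a (𝟙 _) (by rw [ha, Category.id_comp])
  have ha' : a' ≫ pullback.snd p (S.fromSpecResidueField s) = 𝟙 _ := pullback.lift_snd _ _ _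
  haveI : FormallyUnramified (pullback.snd p (S.fromSpecResidueField s)) := MorphismProperty.pullback_snd _ _ inferInstance
  haveI : LocallyOfFiniteType (pullback.snd p (S.fromSpecResidueField s)) := MorphismProperty.pullback_snd _ _ inferInstance
  haveI : IsOpenImmersion a' := EtaleSections.isOpenImmersion_section _ a' ha'
  haveI : Subsingleton ↥(pullback p (S.fromSpecResidueField s)) := by
    haveI := hsub.coe_sort
    exact (p.fiberHomeo s).injective.subsingleton
  haveI : Surjective a' := ⟨fun z => ⟨IsLocalRing.closedPoint _, Subsingleton.elim _ _⟩⟩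
  haveI : IsIso a' := (isIso_iff_isOpenImmersion_and_surjective a').2 ⟨inferInstance, inferInstance⟩
  haveI : IsIso (a' ≫ pullback.snd p (S.fromSpecResidueField s)) := by rw [ha']; infer_instance
  exact IsIso.of_isIso_comp_left a' _

/-- A finite algebra with trivial fibre at a prime is a quotient near that prime. -/
theorem exists_surjective_away (R A : Type u) [CommRing R] [CommRing A] [Algebra R A] [Module.Finite R A]
    (q : Ideal R) [q.IsPrime]
    (h : Function.Surjective (algebraMap q.ResidueField (q.ResidueField ⊗[R] A))) :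
    ∃ r ∉ q, Function.Surjective (algebraMap (Localization.Away r) (Localization.Away r ⊗[R] A)) := by
  let C := A ⧸ LinearMap.range (Algebra.linearMap R A)
  let π : A →ₗ[R] C := (LinearMap.range (Algebra.linearMap R A)).mkQ
  haveI : Module.Finite R C := Module.Finite.of_surjective π (Submodule.mkQ_surjective _)
  have hC : (⟨q, inferInstance⟩ : PrimeSpectrum R) ∉ Module.support R C := by
    rw [Module.mem_support_iff_nontrivial_residueField_tensorProduct, not_nontrivial_iff_subsingleton]
    refine subsingleton_of_forall_eq 0 fun z => ?_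
    obtain ⟨y, rfl⟩ := LinearMap.lTensor_surjective q.ResidueField (Submodule.mkQ_surjective _ : Function.Surjective π) z
    obtain ⟨k, rfl⟩ := h y
    rw [Algebra.TensorProduct.algebraMap_apply, Algebra.algebraMap_self, RingHom.id_apply,
      LinearMap.lTensor_tmul, show π 1 = 0 from (Submodule.Quotient.mk_eq_zero _).2 ⟨1, map_one (algebraMap R A)⟩,
      TensorProduct.tmul_zero]
  rw [Module.support_eq_zeroLocus, PrimeSpectrum.mem_zeroLocus] at hC
  obtain ⟨r, hr, hrq⟩ := Set.not_subset.1 hC
  refine ⟨r, hrq, fun z => ?_⟩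
  have key : ∀ a : A, ∃ c : R, r • a = algebraMap R A c := fun a => by
    have h1 : r • π a = 0 := Module.mem_annihilator.1 hr _
    rw [← LinearMap.map_smul] at h1
    obtain ⟨c, hc⟩ := (Submodule.Quotient.mk_eq_zero _).1 h1
    exact ⟨c, hc.symm⟩
  induction z using TensorProduct.induction_on with
  | zero => exact ⟨0, map_zero _⟩
  | tmul t a =>
    obtain ⟨c, hc⟩ := key a
    obtain ⟨ρ, hρ⟩ := (IsLocalization.Away.algebraMap_isUnit (S := Localization.Away r) r).exists_left_inv
    refine ⟨c • (t * ρ), ?_⟩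
    rw [Algebra.TensorProduct.algebraMap_apply, Algebra.algebraMap_self, RingHom.id_apply,
      TensorProduct.smul_tmul, ← Algebra.algebraMap_eq_smul_one, ← hc, ← TensorProduct.smul_tmul,
      Algebra.smul_def, mul_comm (algebraMap R (Localization.Away r) r), mul_assoc, hρ, mul_one]
  | add x y hx hy =>
    obtain ⟨b, rfl⟩ := hx
    obtain ⟨c, rfl⟩ := hy
    exact ⟨b + c, map_add _ _ _⟩

/-- A finite unramified morphism with one rational point over `s` is a closed immersion near `s`. -/
theorem exists_nhd_isClosedImmersion (p : X ⟶ S) [IsFinite p] [FormallyUnramified p] (s : S) (w : X)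
    (hw : p w = s) (huniq : ∀ x, p x = s → x = w) (hκ : Function.Surjective (p.residueFieldMap w)) :
    ∃ N : S.Opens, s ∈ N ∧ IsClosedImmersion (p ∣_ N) := by
  subst hw
  haveI : IsIso (p.residueFieldMap w) := (ConcreteCategory.isIso_iff_bijective _).2
    ⟨(p.residueFieldMap w).hom.injective, hκ⟩
  have hiso : IsIso (pullback.snd p (S.fromSpecResidueField (p w))) := by
    refine isIso_snd_residueField p _ (fun a ha b hb => (huniq a ha).trans (huniq b hb).symm)
      (Spec.map (inv (p.residueFieldMap w)) ≫ X.fromSpecResidueField w) ?_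
    rw [Category.assoc, ← Scheme.Hom.SpecMap_residueFieldMap_fromSpecResidueField, ← Category.assoc,
      ← Spec.map_comp, IsIso.hom_inv_id, Spec.map_id, Category.id_comp]
  haveI := hiso
  obtain ⟨W, hW, hsW, -⟩ := exists_isAffineOpen_mem_and_subset (U := ⊤) (x := p w) trivial
  let R := Γ(S, W)
  let P := pullback p hW.fromSpec
  haveI : IsAffine P := isAffine_of_isAffineHom (pullback.snd p hW.fromSpec)
  let φ : R ⟶ Γ(P, ⊤) := Spec.preimage (P.isoSpec.inv ≫ pullback.snd p hW.fromSpec)
  have hφ : Spec.map φ = P.isoSpec.inv ≫ pullback.snd p hW.fromSpec := Spec.map_preimage _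
  have hfin : φ.hom.Finite := by
    rw [← IsFinite.SpecMap_iff, hφ]; infer_instance
  letI := φ.hom.toAlgebra
  haveI : Module.Finite R Γ(P, ⊤) := hfin
  -- base change of the fibre to a ring-theoretic description
  have hbc : ∀ (B : CommRingCat.{u}) (β : R ⟶ B) [IsIso (pullback.snd p (Spec.map β ≫ hW.fromSpec))],
      IsIso (pullback.snd (Spec.map φ) (Spec.map β)) := by
    intro B β _
    have e : pullback.snd (Spec.map φ) (Spec.map β) =
        (pullback.map (Spec.map φ) (Spec.map β) (pullback.snd p hW.fromSpec) (Spec.map β) P.isoSpec.inv (𝟙 _) (𝟙 _)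
          (by rw [hφ, Category.comp_id]) (by simp) ≫ (pullbackLeftPullbackSndIso p hW.fromSpec (Spec.map β)).hom) ≫
          pullback.snd p (Spec.map β ≫ hW.fromSpec) := by
      rw [Category.assoc, pullbackLeftPullbackSndIso_hom_snd]
      exact ((pullback.lift_snd _ _ _).trans (Category.comp_id _)).symm
    rw [e]
    infer_instance
  set q := (hW.primeIdealOf ⟨p w, hsW⟩).asIdeal
  let β : R ⟶ CommRingCat.of q.ResidueField := CommRingCat.ofHom (algebraMap R q.ResidueField)
  let c := Spec.map β ≫ hW.fromSpec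
  have hcpt : c (IsLocalRing.closedPoint q.ResidueField) = p w := by
    rw [Scheme.Hom.comp_apply]
    convert hW.fromSpec_primeIdealOf ⟨p w, hsW⟩ using 2
    apply PrimeSpectrum.ext
    change Ideal.comap (algebraMap R q.ResidueField) (IsLocalRing.maximalIdeal q.ResidueField) = q
    rw [IsLocalRing.maximalIdeal_eq_bot]
    ext r
    simp [Ideal.mem_comap, Ideal.algebraMap_residueField_eq_zero]
  have key : ∀ z : S, c (IsLocalRing.closedPoint q.ResidueField) = z →
      ∃ τ, c = Spec.map τ ≫ S.fromSpecResidueField z := by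
    rintro z rfl
    exact ⟨_, (Scheme.descResidueField_stalkClosedPointTo_fromSpecResidueField q.ResidueField S c).symm⟩
  obtain ⟨τ, hτ⟩ := key _ hcpt
  haveI : IsIso (pullback.snd p c) := by
    rw [hτ, ← pullbackLeftPullbackSndIso_inv_snd_snd p (S.fromSpecResidueField (p w)) (Spec.map τ)]
    infer_instance
  haveI := hbc _ β
  haveI : IsIso (Spec.map (CommRingCat.ofHom (algebraMap q.ResidueField (q.ResidueField ⊗[R] Γ(P, ⊤))))) := by
    have e : Spec.map (CommRingCat.ofHom (algebraMap q.ResidueField (q.ResidueField ⊗[R] Γ(P, ⊤)))) =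
        (pullbackSpecIso R q.ResidueField Γ(P, ⊤)).inv ≫ (pullbackSymmetry _ _).hom ≫
          pullback.snd (Spec.map φ) (Spec.map β) := by
      erw [pullbackSymmetry_hom_comp_snd]
      exact (pullbackSpecIso_inv_fst R q.ResidueField Γ(P, ⊤)).symm
    rw [e]
    infer_instance
  haveI : IsIso (CommRingCat.ofHom (algebraMap q.ResidueField (q.ResidueField ⊗[R] Γ(P, ⊤)))) := by
    haveI : IsIso (Scheme.Spec.map (CommRingCat.ofHom (algebraMap q.ResidueField (q.ResidueField ⊗[R] Γ(P, ⊤)))).op) :=
      ‹IsIso (Spec.map _)›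
    haveI := isIso_of_reflects_iso (CommRingCat.ofHom (algebraMap q.ResidueField (q.ResidueField ⊗[R] Γ(P, ⊤)))).op Scheme.Spec
    exact isIso_of_op _
  obtain ⟨r, hrq, hr⟩ := exists_surjective_away R Γ(P, ⊤) q
    (ConcreteCategory.bijective_of_isIso (CommRingCat.ofHom (algebraMap q.ResidueField (q.ResidueField ⊗[R] Γ(P, ⊤))))).2
  let γ : R ⟶ CommRingCat.of (Localization.Away r) := CommRingCat.ofHom (algebraMap R (Localization.Away r))
  haveI : IsOpenImmersion (Spec.map γ) := IsOpenImmersion.of_isLocalization r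
  let j := Spec.map γ ≫ hW.fromSpec
  haveI : IsClosedImmersion (pullback.snd p j) := by
    haveI : IsClosedImmersion (Spec.map (CommRingCat.ofHom (algebraMap (Localization.Away r) (Localization.Away r ⊗[R] Γ(P, ⊤))))) :=
      IsClosedImmersion.spec_of_surjective _ hr
    have e : pullback.snd p j = (pullbackLeftPullbackSndIso p hW.fromSpec (Spec.map γ)).inv ≫
        (pullback.map (pullback.snd p hW.fromSpec) (Spec.map γ) (Spec.map φ) (Spec.map γ) P.isoSpec.hom (𝟙 _) (𝟙 _)
          (by rw [hφ, Category.comp_id, Iso.hom_inv_id_assoc]) (by simp)) ≫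
        (pullbackSymmetry _ _).hom ≫ (pullbackSpecIso R (Localization.Away r) Γ(P, ⊤)).hom ≫
        Spec.map (CommRingCat.ofHom (algebraMap (Localization.Away r) (Localization.Away r ⊗[R] Γ(P, ⊤)))) := by
      rw [← (Iso.inv_comp_eq _).1 (pullbackSpecIso_inv_fst R (Localization.Away r) Γ(P, ⊤))]
      erw [pullbackSymmetry_hom_comp_fst]
      rw [pullback.lift_snd, Category.comp_id, pullbackLeftPullbackSndIso_inv_snd_snd]
    rw [e]
    infer_instance
  refine ⟨j.opensRange, ?_, (MorphismProperty.arrow_mk_iso_iff @IsClosedImmersion (morphismRestrictOpensRange p j)).2 inferInstance⟩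
  obtain ⟨t, ht⟩ : hW.primeIdealOf ⟨p w, hsW⟩ ∈ Set.range (Spec.map γ) :=
    (PrimeSpectrum.localization_away_comap_range (Localization.Away r) r).ge hrq
  refine ⟨t, ?_⟩
  change hW.fromSpec (Spec.map γ t) = p w
  rw [ht, hW.fromSpec_primeIdealOf]

/-- At a point of an unramified piece with purely inseparable residue extension the residue extension
is trivial. -/
theorem residueFieldMap_piece_surjective {U : Scheme.{u}} (f : X ⟶ S) (g : U ⟶ S) (W₀ : X.Opens)
    [FormallyUnramified (W₀.ι ≫ f)] (V : (pullback f g).Opens) (hV : V ≤ pullback.fst f g ⁻¹ᵁ W₀)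
    [IsFinite (V.ι ≫ pullback.snd f g)] (v : ↥(pullback f g)) (hv : v ∈ V)
    (hpi : ((pullback.snd f g).residueFieldMap v).hom.IsPurelyInseparable) :
    FormallyUnramified (V.ι ≫ pullback.snd f g) ∧
      Function.Surjective ((V.ι ≫ pullback.snd f g).residueFieldMap ⟨v, hv⟩) := by
  haveI : FormallyUnramified ((pullback.fst f g ⁻¹ᵁ W₀).ι ≫ pullback.snd f g) :=
    MorphismProperty.of_isPullback (P := @FormallyUnramified)
      ((isPullback_morphismRestrict (pullback.fst f g) W₀).paste_vert (IsPullback.of_hasPullback f g)) inferInstance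
  haveI hfu : FormallyUnramified (V.ι ≫ pullback.snd f g) := by
    rw [← Scheme.homOfLE_ι _ hV, Category.assoc]
    exact MorphismProperty.comp_mem _ _ _ inferInstance inferInstance
  refine ⟨hfu, ?_⟩
  let π := V.ι ≫ pullback.snd f g
  let v' : V.toScheme := ⟨v, hv⟩
  have hj : Function.Surjective (V.ι.residueFieldMap v').hom :=
    (ConcreteCategory.bijective_of_isIso (V.ι.residueFieldMap v')).2
  have hjpi : (V.ι.residueFieldMap v').hom.IsPurelyInseparable := by
    letI := (V.ι.residueFieldMap v').hom.toAlgebra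
    exact ⟨⟨RingHom.isIntegral_of_surjective _ hj⟩, fun z _ => hj z⟩
  have hπ : (π.residueFieldMap v').hom.IsPurelyInseparable := by
    simp only [π]
    rw [Scheme.residueFieldMap_comp]
    exact hpi.comp hjpi
  letI := (π.residueFieldMap v').hom.toAlgebra
  haveI : IsPurelyInseparable (U.residueField (π v')) (V.toScheme.residueField v') := hπ
  haveI : Algebra.IsSeparable (U.residueField (π v')) (V.toScheme.residueField v') :=
    (inferInstance : letI := (π.residueFieldMap v').hom.toAlgebra
      Algebra.IsSeparable (U.residueField (π v')) (V.toScheme.residueField v'))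
  exact IsPurelyInseparable.surjective_algebraMap_of_isSeparable _ _

theorem isClosed_of_isFinite {U : Scheme.{u}} (f : X ⟶ S) [IsSeparated f] (g : U ⟶ S) (V : (pullback f g).Opens)
    [IsFinite (V.ι ≫ pullback.snd f g)] : IsClosed (V : Set ↥(pullback f g)) := by
  haveI : IsFinite V.ι := .of_comp _ (pullback.snd f g)
  simpa using V.ι.isClosedMap.isClosed_range

/-- Étale neighbourhoods splitting the given points of a fibre into pieces with a property which can be
achieved near the distinguished point of each strongly split finite piece. -/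
theorem exists_split_nbhd (f : X ⟶ S) (s : S) {ι : Type} [Finite ι] (x : ι → X) (hs : ∀ i, f (x i) = s)
    (W : ι → X.Opens) (hxW : ∀ i, x i ∈ W i) (hft : ∀ i, LocallyOfFiniteType ((W i).ι ≫ f))
    (hqf : ∀ i, LocallyQuasiFinite ((W i).ι ≫ f))
    (P : MorphismProperty Scheme.{u}) [P.IsStableUnderBaseChange]
    (hP : ∀ {U : Scheme.{u}} (g : U ⟶ S) (i : ι) (V : (pullback f g).Opens) (v : ↥(pullback f g)) (hv : v ∈ V),
      Etale g → IsFinite (V.ι ≫ pullback.snd f g) →
      (∀ w ∈ V, pullback.snd f g w = pullback.snd f g v → w = v) →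
      ((pullback.snd f g).residueFieldMap v).hom.IsPurelyInseparable →
      V ≤ pullback.fst f g ⁻¹ᵁ W i →
      ∃ N : U.Opens, pullback.snd f g v ∈ N ∧ P ((V.ι ≫ pullback.snd f g) ∣_ N)) :
    ∃ (U : Scheme.{u}) (g : U ⟶ S) (u : U), Etale g ∧ g u = s ∧
      ∃ (K : Type) (_ : Finite K) (lab : K → ι) (V : K → (pullback f g).Opens) (v : K → ↥(pullback f g)),
        (∀ k, v k ∈ V k ∧ P ((V k).ι ≫ pullback.snd f g) ∧ pullback.snd f g (v k) = u ∧
          (∀ w : ↥(pullback f g), w ∈ V k → pullback.snd f g w = u → w = v k) ∧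
          pullback.fst f g (v k) = x (lab k)) ∧
        Function.Injective v ∧
        (∀ (w : ↥(pullback f g)) (i : ι), pullback.snd f g w = u → pullback.fst f g w = x i →
          ∃ k, w = v k) ∧
        (IsSeparated f → (∀ k, IsClosed (V k : Set ↥(pullback f g))) ∧ ∀ k k', k ≠ k' → Disjoint (V k) (V k')) := by
  classical
  obtain ⟨U, g, u, hg, hu, K, hK, lab, V₀, v, hV, hinj, hall⟩ := exists_strong_nbhd f s x hs W hxW hft hqf
  haveI := hK
  -- make the pieces disjoint in the separated case
  obtain ⟨V, hVle, hvV, hVf, hVsep⟩ : ∃ V : K → (pullback f g).Opens, (∀ k, V k ≤ V₀ k) ∧ (∀ k, v k ∈ V k) ∧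
      (∀ k, IsFinite ((V k).ι ≫ pullback.snd f g)) ∧
      (IsSeparated f → (∀ k, IsClosed (V k : Set ↥(pullback f g))) ∧ ∀ k k', k ≠ k' → Disjoint (V k) (V k')) := by
    by_cases hsep : IsSeparated f
    · haveI := hsep
      have hc : ∀ k, IsClosed (V₀ k : Set ↥(pullback f g)) := fun k => by
        haveI := (hV k).2.1; exact isClosed_of_isFinite f g _
      let V : K → (pullback f g).Opens := fun k =>
        ⟨(V₀ k : Set _) ∩ ⋂ k' : {k' : K // k' ≠ k}, ((V₀ k'.1 : Set _))ᶜ,
          (V₀ k).2.inter (isOpen_iInter_of_finite fun k' : {k' : K // k' ≠ k} => (hc k'.1).isOpen_compl)⟩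
      have hVc : ∀ k, IsClosed (V k : Set ↥(pullback f g)) := fun k =>
        (hc k).inter (isClosed_iInter fun k' : {k' : K // k' ≠ k} => (V₀ k'.1).2.isClosed_compl)
      refine ⟨V, fun k => fun _ h => h.1, fun k => ⟨(hV k).1, Set.mem_iInter.2 fun (k' : {k' : K // k' ≠ k}) => fun h => k'.2 ?_⟩, fun k => ?_,
        fun _ => ⟨hVc, fun k k' hne => ?_⟩⟩
      · exact (hinj ((hV k'.1).2.2.2.1 (v k) h (hV k).2.2.1)).symm
      · haveI := (hV k).2.1
        have hle : V k ≤ V₀ k := fun _ h => h.1
        haveI : IsClosedImmersion ((pullback f g).homOfLE hle) := by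
          refine .of_isPreimmersion _ ?_
          rw [← Scheme.Hom.coe_opensRange, Scheme.opensRange_homOfLE]
          exact (hVc k).preimage continuous_subtype_val
        rw [← Scheme.homOfLE_ι _ hle, Category.assoc]
        infer_instance
      · rw [disjoint_iff_inf_le]
        rintro a ⟨⟨-, ha⟩, ⟨ha', -⟩⟩
        exact Set.mem_iInter.1 ha ⟨k', hne.symm⟩ ha'
    · exact ⟨V₀, fun k => le_rfl, fun k => (hV k).1, fun k => (hV k).2.1, fun h => absurd h hsep⟩
  have hloc : ∀ k, ∃ N : U.Opens, u ∈ N ∧ P (((V k).ι ≫ pullback.snd f g) ∣_ N) := fun k => by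
    obtain ⟨h1, -, h3, h4, h5, -, -, h8⟩ := hV k
    haveI := hVf k
    obtain ⟨N, hN, hPN⟩ := hP g (lab k) (V k) (v k) (hvV k) hg (hVf k)
      (fun w hw he => h4 w (hVle k hw) (he.trans h3)) h5 ((hVle k).trans h8)
    exact ⟨N, h3 ▸ hN, hPN⟩
  choose N huN hPN using hloc
  let N₀ : U.Opens := ⟨⋂ k, (N k : Set U), isOpen_iInter_of_finite fun k => (N k).2⟩
  have hu₀ : u ∈ N₀ := Set.mem_iInter.2 huN
  let g' : N₀.toScheme ⟶ S := N₀.ι ≫ g
  let m : pullback f g' ⟶ pullback f g := Weighting.bcMap N₀.ι rfl
  have hm₁ : m ≫ pullback.fst f g = pullback.fst f g' := Weighting.bcMap_fst _ _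
  have hm₂ : m ≫ pullback.snd f g = pullback.snd f g' ≫ N₀.ι := Weighting.bcMap_snd _ _
  have hmp : IsPullback m (pullback.snd f g') (pullback.snd f g) N₀.ι := Weighting.isPullback_bcMap _ _
  have hinjm : Function.Injective m := by
    haveI : IsOpenImmersion m := MorphismProperty.of_isPullback (P := @IsOpenImmersion) hmp.flip inferInstance
    exact m.isOpenEmbedding.injective
  choose z hz₁ hz₂ using fun k => Scheme.exists_preimage_of_isPullback hmp (v k) (⟨u, hu₀⟩ : N₀) (hV k).2.2.1
  haveI := hg
  refine ⟨N₀, g', ⟨u, hu₀⟩, inferInstance, by rw [Scheme.Hom.comp_apply]; exact hu, K, inferInstance, lab,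
    fun k => m ⁻¹ᵁ V k, z, fun k => ⟨?_, ?_, hz₂ k, ?_, ?_⟩, ?_, ?_, ?_⟩
  · change m (z k) ∈ V k
    rw [hz₁]; exact hvV k
  · have hle : N₀ ≤ N k := fun a ha => Set.mem_iInter.1 ha k
    have h1 : IsPullback (m ∣_ V k) ((m ⁻¹ᵁ V k).ι ≫ pullback.snd f g') ((V k).ι ≫ pullback.snd f g)
        (U.homOfLE hle ≫ (N k).ι) := by
      rw [Scheme.homOfLE_ι]
      exact (isPullback_morphismRestrict m (V k)).paste_vert hmp
    have h2 : IsPullback (IsPullback.lift (isPullback_morphismRestrict ((V k).ι ≫ pullback.snd f g) (N k)).flip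
        (m ∣_ V k) ((m ⁻¹ᵁ V k).ι ≫ pullback.snd f g' ≫ U.homOfLE hle) (by rw [h1.w]; simp))
        ((m ⁻¹ᵁ V k).ι ≫ pullback.snd f g') (((V k).ι ≫ pullback.snd f g) ∣_ N k) (U.homOfLE hle) := by
      refine IsPullback.of_right ?_ (by rw [IsPullback.lift_snd, Category.assoc])
        (isPullback_morphismRestrict ((V k).ι ≫ pullback.snd f g) (N k)).flip
      rw [IsPullback.lift_fst]
      exact h1
    exact MorphismProperty.of_isPullback h2 (hPN k)
  · intro w hw hwu
    refine hinjm ?_
    rw [hz₁]
    refine (hV k).2.2.2.1 _ (hVle k hw) ?_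
    rw [← Scheme.Hom.comp_apply, hm₂, Scheme.Hom.comp_apply, hwu]
    rfl
  · rw [← hm₁, Scheme.Hom.comp_apply, hz₁]
    exact (hV k).2.2.2.2.2.2.1
  · intro k k' h
    apply hinj
    rw [← hz₁ k, ← hz₁ k', h]
  · intro w i hw hwx
    obtain ⟨k, hk⟩ := hall (m w) i (by rw [← Scheme.Hom.comp_apply, hm₂, Scheme.Hom.comp_apply, hw]; rfl)
      (by rw [← Scheme.Hom.comp_apply, hm₁, hwx])
    exact ⟨k, hinjm (hk.trans (hz₁ k).symm)⟩
  · intro hsep
    refine ⟨fun k => ((hVsep hsep).1 k).preimage m.continuous, fun k k' hne => ?_⟩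
    have := (hVsep hsep).2 k k' hne
    rw [disjoint_iff_inf_le] at this ⊢
    exact fun a ha => this ha

theorem locallyQuasiFinite_of_formallyUnramified {T : Scheme.{u}} (π : T ⟶ S) [FormallyUnramified π]
    [LocallyOfFiniteType π] : LocallyQuasiFinite π :=
  EtaleSections.locallyQuasiFinite_of_unramified π

/-- Splitting of unramified points by closed immersions, étale-locally. -/
theorem exists_unramified_split (f : X ⟶ S) (s : S) {ι : Type} [Finite ι] (x : ι → X) (hs : ∀ i, f (x i) = s)
    (hx : ∀ i, ∃ W : X.Opens, x i ∈ W ∧ LocallyOfFiniteType (W.ι ≫ f) ∧ FormallyUnramified (W.ι ≫ f)) :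
    ∃ (U : Scheme.{u}) (g : U ⟶ S) (u : U), Etale g ∧ g u = s ∧
      ∃ (K : Type) (_ : Finite K) (lab : K → ι) (V : K → (pullback f g).Opens) (v : K → ↥(pullback f g)),
        (∀ k, v k ∈ V k ∧ IsClosedImmersion ((V k).ι ≫ pullback.snd f g) ∧ pullback.snd f g (v k) = u ∧
          (∀ w : ↥(pullback f g), w ∈ V k → pullback.snd f g w = u → w = v k) ∧
          pullback.fst f g (v k) = x (lab k)) ∧
        Function.Injective v ∧
        (∀ (w : ↥(pullback f g)) (i : ι), pullback.snd f g w = u → pullback.fst f g w = x i →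
          ∃ k, w = v k) ∧
        (IsSeparated f → (∀ k, IsClosed (V k : Set ↥(pullback f g))) ∧ ∀ k k', k ≠ k' → Disjoint (V k) (V k')) := by
  choose W hxW hft hun using hx
  refine exists_split_nbhd f s x hs W hxW hft (fun i => by
    haveI := hft i; haveI := hun i; exact locallyQuasiFinite_of_formallyUnramified _) @IsClosedImmersion ?_
  intro U g i V v hv hg hfin huniq hpi hle
  haveI := hfin
  haveI := hun i
  obtain ⟨hfu, hsurj⟩ := residueFieldMap_piece_surjective f g (W i) V hle v hv hpi
  haveI := hfu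
  exact exists_nhd_isClosedImmersion (V.ι ≫ pullback.snd f g) _ ⟨v, hv⟩ rfl
    (fun a ha => Subtype.ext (huniq a.1 a.2 ha)) hsurj

end Groth.Agent.TwConst
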