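import Groth.Agent.Weighting.Split
import Mathlib.RingTheory.RingHom.PurelyInseparable

/-!
Étale neighbourhoods splitting the quasi-finite points of a fibre into pieces with a single,
purely inseparable point.
-/

set_option autoImplicit false
set_option linter.style.haveILetI false

universe u

open CategoryTheory AlgebraicGeometry Limits

namespace Groth.Agent.TwConst

open Weighting (L Fib mem_L_iff injOn_L exists_mem_fib_at ncard_fib_at pt_comp bc isFinite_bc L_bc)

variable {X S : Scheme.{u}}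

/-- A strong chart around a geometric point at which the morphism is quasi-finite. -/
theorem exists_chart_of_locus (f : X ⟶ S) {Ω : Type u} [Field Ω]
    (l : Spec (CommRingCat.of Ω) ⟶ X) (X₀ : X.Opens) (hl : l (IsLocalRing.closedPoint Ω) ∈ X₀)
    [LocallyOfFiniteType (X₀.ι ≫ f)] [LocallyQuasiFinite (X₀.ι ≫ f)] :
    ∃ (V : Scheme.{u}) (g : V ⟶ S) (_ : Etale g) (v : Spec (CommRingCat.of Ω) ⟶ V)
      (W : (pullback f g).Opens), v ≫ g = l ≫ f ∧ IsFinite (W.ι ≫ pullback.snd f g) ∧ L W v = {l} ∧
        W ≤ pullback.fst f g ⁻¹ᵁ X₀ := by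
  have hr : Set.range l ⊆ Set.range X₀.ι := by
    rintro _ ⟨z, rfl⟩
    rw [Scheme.Opens.range_ι, Subsingleton.elim z (IsLocalRing.closedPoint Ω)]
    exact hl
  let x' := IsOpenImmersion.lift X₀.ι l hr
  have hx' : x' ≫ X₀.ι = l := IsOpenImmersion.lift_fac _ _ _
  obtain ⟨V, g, hg, v, W₀, hv, hWfin, hWL⟩ := Weighting.exists_chart (X₀.ι ≫ f) x'
  let m : pullback (X₀.ι ≫ f) g ⟶ pullback f g :=
    pullback.map _ _ f g X₀.ι (𝟙 _) (𝟙 _) (by simp) (by simp)
  have hm₁ : m ≫ pullback.fst f g = pullback.fst (X₀.ι ≫ f) g ≫ X₀.ι := pullback.lift_fst _ _ _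
  have hm₂ : m ≫ pullback.snd f g = pullback.snd (X₀.ι ≫ f) g :=
    (pullback.lift_snd _ _ _).trans (Category.comp_id _)
  haveI : IsOpenImmersion m := by dsimp only [m]; infer_instance
  refine ⟨V, g, hg, v, m ''ᵁ W₀, by rw [hv, ← Category.assoc, hx'], ?_, ?_, ?_⟩
  · have hr : (W₀.ι ≫ m).opensRange = m ''ᵁ W₀ := by
      rw [Scheme.Hom.opensRange_comp, Scheme.Opens.opensRange_ι]
    rw [← hr, ← MorphismProperty.cancel_left_of_respectsIso @IsFinite (Scheme.Hom.isoOpensRange _).hom,
      ← Category.assoc, Scheme.Hom.isoOpensRange_hom_ι, Category.assoc, hm₂]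
    exact hWfin
  · ext a
    rw [Set.mem_singleton_iff, mem_L_iff]
    constructor
    · rintro ⟨h, q, hq, hqa⟩
      let b := pullback.lift a v h
      have hrb : Set.range b ⊆ Set.range m := by
        rintro _ ⟨z, rfl⟩
        exact ⟨q, hqa.trans (congrArg b (Subsingleton.elim _ _))⟩
      let c := IsOpenImmersion.lift m b hrb
      have hc : c ≫ m = b := IsOpenImmersion.lift_fac _ _ _
      have hcs : c ≫ pullback.snd (X₀.ι ≫ f) g = v := by
        rw [← hm₂, ← Category.assoc, hc, pullback.lift_snd]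
      have hcW : c (IsLocalRing.closedPoint Ω) ∈ W₀ := by
        have h1 : m (c (IsLocalRing.closedPoint Ω)) = m q := by
          rw [← Scheme.Hom.comp_apply, hc]; exact hqa.symm
        rw [m.isOpenEmbedding.injective h1]
        exact hq
      have hmem : c ≫ pullback.fst (X₀.ι ≫ f) g ∈ L W₀ v := by
        refine mem_L_iff.2 ⟨by rw [Category.assoc, pullback.condition, ← Category.assoc, hcs], ?_⟩
        rw [show pullback.lift (c ≫ pullback.fst (X₀.ι ≫ f) g) v _ = c from
          pullback.hom_ext (pullback.lift_fst _ _ _) ((pullback.lift_snd _ _ _).trans hcs.symm)]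
        exact hcW
      rw [hWL, Set.mem_singleton_iff] at hmem
      rw [← hx', ← hmem, Category.assoc, ← hm₁, ← Category.assoc, hc, pullback.lift_fst]
    · rintro rfl
      have hmem : x' ∈ L W₀ v := hWL ▸ rfl
      obtain ⟨h, hh⟩ := mem_L_iff.1 hmem
      refine ⟨by rw [hv, ← Category.assoc, hx'], ?_⟩
      refine ⟨_, hh, ?_⟩
      refine (pt_comp _ _).symm.trans ?_
      congr 1
      apply pullback.hom_ext
      · rw [Category.assoc, hm₁, pullback.lift_fst_assoc, pullback.lift_fst]; exact hx'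
      · rw [Category.assoc, hm₂, pullback.lift_snd, pullback.lift_snd]
  · rintro _ ⟨q, -, rfl⟩
    change pullback.fst f g (m q) ∈ X₀
    rw [← Scheme.Hom.comp_apply, hm₁, Scheme.Hom.comp_apply]
    exact (pullback.fst (X₀.ι ≫ f) g q).2

/-- Quasi-finite points of a fibre, split into purely inseparable singletons after an étale
neighbourhood. -/
theorem exists_strong_nbhd (f : X ⟶ S) (s : S) {ι : Type} [Finite ι] (x : ι → X) (hs : ∀ i, f (x i) = s)
    (W : ι → X.Opens) (hxW : ∀ i, x i ∈ W i) (hft : ∀ i, LocallyOfFiniteType ((W i).ι ≫ f))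
    (hqf : ∀ i, LocallyQuasiFinite ((W i).ι ≫ f)) :
    ∃ (U : Scheme.{u}) (g : U ⟶ S) (u : U), Etale g ∧ g u = s ∧
      ∃ (K : Type) (_ : Finite K) (lab : K → ι) (V : K → (pullback f g).Opens) (v : K → ↥(pullback f g)),
        (∀ k, v k ∈ V k ∧ IsFinite ((V k).ι ≫ pullback.snd f g) ∧ pullback.snd f g (v k) = u ∧
          (∀ w : ↥(pullback f g), w ∈ V k → pullback.snd f g w = u → w = v k) ∧
          ((pullback.snd f g).residueFieldMap (v k)).hom.IsPurelyInseparable ∧
          ((pullback.snd f g).residueFieldMap (v k)).hom.Finite ∧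
          pullback.fst f g (v k) = x (lab k) ∧ V k ≤ pullback.fst f g ⁻¹ᵁ W (lab k)) ∧
        Function.Injective v ∧
        (∀ (w : ↥(pullback f g)) (i : ι), pullback.snd f g w = u → pullback.fst f g w = x i →
          ∃ k, w = v k) := by
  classical
  obtain ⟨Ω, _, _, y, rfl⟩ := Weighting.exists_geomPt s
  -- geometric points over `y` at the given points
  let T : Set (Spec (CommRingCat.of Ω) ⟶ X) := {l | l ≫ f = y ∧ ∃ i, l (IsLocalRing.closedPoint Ω) = x i}
  have hT : T.Finite := by
    refine (Set.finite_iUnion (f := fun i => {l | l ≫ f = y ∧ l (IsLocalRing.closedPoint Ω) = x i}) fun i => ?_).subset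
      fun l hl => Set.mem_iUnion.2 (hl.2.imp fun i hi => ⟨hl.1, hi⟩)
    haveI := hqf i
    have hfin : {l' | l' ∈ Fib ((W i).ι ≫ f) y ∧ Weighting.pt l' = (⟨x i, hxW i⟩ : W i)}.Finite :=
      (ncard_fib_at ((W i).ι ≫ f) y ⟨x i, hxW i⟩ (hs i)).1
    refine (hfin.image (· ≫ (W i).ι)).subset ?_
    rintro l ⟨hl, hli⟩
    have hr : Set.range l ⊆ Set.range (W i).ι := by
      rintro _ ⟨z, rfl⟩
      rw [Scheme.Opens.range_ι, Subsingleton.elim z (IsLocalRing.closedPoint Ω), hli]
      exact hxW i
    refine ⟨IsOpenImmersion.lift (W i).ι l hr, ⟨?_, ?_⟩, IsOpenImmersion.lift_fac _ _ _⟩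
    · show IsOpenImmersion.lift (W i).ι l hr ≫ (W i).ι ≫ f = y
      rw [IsOpenImmersion.lift_fac_assoc, hl]
    · apply (W i).ι.isOpenEmbedding.injective
      rw [← pt_comp, IsOpenImmersion.lift_fac]
      exact hli
  choose lb hlb using fun l : T => l.2.2
  -- charts, refined simultaneously
  have H : ∀ t : Finset T, ∃ (U : Scheme.{u}) (g : U ⟶ S) (_ : Etale g) (v : Spec (CommRingCat.of Ω) ⟶ U),
      v ≫ g = y ∧ ∀ l ∈ t, ∃ V : (pullback f g).Opens, IsFinite (V.ι ≫ pullback.snd f g) ∧ L V v = {l.1} ∧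
        V ≤ pullback.fst f g ⁻¹ᵁ W (lb l) := by
    intro t
    induction t using Finset.induction_on with
    | empty => exact ⟨S, 𝟙 S, inferInstance, y, Category.comp_id y, fun l hl => absurd hl (Finset.notMem_empty _)⟩
    | insert a t _ ih =>
      obtain ⟨U, g, hg, v, hv, hV⟩ := ih
      haveI := hft (lb a)
      haveI := hqf (lb a)
      obtain ⟨U', g', hg', v', V', hv', hV'fin, hV', hV'W⟩ := exists_chart_of_locus f a.1 (W (lb a))
        (by rw [hlb a]; exact hxW _)
      have hvv : v ≫ g = v' ≫ g' := by rw [hv, hv', a.2.1]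
      haveI : Etale (pullback.fst g g') := MorphismProperty.pullback_fst _ _ hg'
      refine ⟨pullback g g', pullback.fst g g' ≫ g, inferInstance, pullback.lift v v' hvv, ?_, ?_⟩
      · rw [← Category.assoc, pullback.lift_fst, hv]
      · intro l hl
        rcases Finset.mem_insert.1 hl with rfl | hl
        · refine ⟨bc (pullback.snd g g') pullback.condition.symm V', isFinite_bc _ _ hV'fin, ?_, ?_⟩
          · rw [L_bc, pullback.lift_snd, hV']
          · intro p hp
            have h1 := hV'W hp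
            change pullback.fst f g' (Weighting.bcMap _ _ p) ∈ W (lb l) at h1
            rw [← Scheme.Hom.comp_apply, Weighting.bcMap_fst] at h1
            exact h1
        · obtain ⟨V, hVfin, hVL, hVW⟩ := hV l hl
          refine ⟨bc (pullback.fst g g') rfl V, isFinite_bc _ _ hVfin, ?_, ?_⟩
          · rw [L_bc, pullback.lift_fst, hVL]
          · intro p hp
            have h1 := hVW hp
            change pullback.fst f g (Weighting.bcMap _ _ p) ∈ W (lb l) at h1
            rw [← Scheme.Hom.comp_apply, Weighting.bcMap_fst] at h1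
            exact h1
  haveI := hT.to_subtype
  obtain ⟨U, g, hg, v, hv, hV⟩ := H (Set.toFinite (Set.univ : Set T)).toFinset
  choose V hVfin hVL hVW using fun l : T => hV l (Set.Finite.mem_toFinset _ |>.2 trivial)
  let P : T → (Spec (CommRingCat.of Ω) ⟶ pullback f g) := fun l => pullback.lift l.1 v (l.2.1.trans hv.symm)
  let p : T → ↥(pullback f g) := fun l => Weighting.pt (P l)
  have hps : ∀ l, pullback.snd f g (p l) = Weighting.pt v := fun l => by
    simp only [p, P]; rw [← pt_comp, pullback.lift_snd]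
  have hpf : ∀ l, pullback.fst f g (p l) = x (lb l) := fun l => by
    simp only [p, P]; rw [← pt_comp, pullback.lift_fst]; exact hlb l
  have hpV : ∀ l, p l ∈ V l := fun l => (mem_L_iff.1 (hVL l ▸ rfl : l.1 ∈ L (V l) v)).2
  -- geometric points of a piece over the base point
  have key : ∀ (l : T) (c : Spec (CommRingCat.of Ω) ⟶ (V l).toScheme),
      c ≫ (V l).ι ≫ pullback.snd f g = v → c ≫ (V l).ι = P l := by
    intro l c hc
    have hmem : c ≫ (V l).ι ≫ pullback.fst f g ∈ L (V l) v := ⟨c, hc, rfl⟩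
    rw [hVL l, Set.mem_singleton_iff] at hmem
    apply pullback.hom_ext
    · rw [Category.assoc, hmem]; exact (pullback.lift_fst _ _ _).symm
    · rw [Category.assoc, hc]; exact (pullback.lift_snd _ _ _).symm
  have huniq : ∀ (l : T) (w : ↥(pullback f g)), w ∈ V l → pullback.snd f g w = Weighting.pt v → w = p l := by
    intro l w hw hwu
    haveI := hVfin l
    obtain ⟨c, hc, hcw⟩ := exists_mem_fib_at ((V l).ι ≫ pullback.snd f g) v ⟨w, hw⟩ hwu
    show w = Weighting.pt (P l)
    rw [← key l c hc, pt_comp, hcw]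
    rfl
  obtain ⟨n, ⟨e⟩⟩ := Finite.exists_equiv_fin T
  refine ⟨U, g, Weighting.pt v, hg, by rw [← pt_comp, hv], Fin n, inferInstance, fun k => lb (e.symm k),
    fun k => V (e.symm k), fun k => p (e.symm k), fun k => ?_, ?_, ?_⟩
  · set l := e.symm k
    haveI := hVfin l
    have hone : {c | c ∈ Fib ((V l).ι ≫ pullback.snd f g) v ∧ Weighting.pt c = (⟨p l, hpV l⟩ : V l)}.ncard = 1 := by
      obtain ⟨c, hc, hcp⟩ := exists_mem_fib_at ((V l).ι ≫ pullback.snd f g) v (⟨p l, hpV l⟩ : V l) (hps l)
      rw [Set.ncard_eq_one]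
      refine ⟨c, Set.eq_singleton_iff_unique_mem.2 ⟨⟨hc, hcp⟩, fun c' hc' => ?_⟩⟩
      rw [← cancel_mono (V l).ι, key l c hc, key l c' hc'.1]
    rw [(ncard_fib_at ((V l).ι ≫ pullback.snd f g) v (⟨p l, hpV l⟩ : V l) (hps l)).2.2] at hone
    have hfinite := Weighting.finite_residueFieldMap ((V l).ι ≫ pullback.snd f g) (⟨p l, hpV l⟩ : V l)
    have hpi : (((V l).ι ≫ pullback.snd f g).residueFieldMap (⟨p l, hpV l⟩ : V l)).hom.IsPurelyInseparable := by
      letI := (((V l).ι ≫ pullback.snd f g).residueFieldMap (⟨p l, hpV l⟩ : V l)).hom.toAlgebra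
      haveI : Module.Finite (U.residueField (((V l).ι ≫ pullback.snd f g) ⟨p l, hpV l⟩))
          ((V l).toScheme.residueField ⟨p l, hpV l⟩) := hfinite
      exact (isPurelyInseparable_iff_finSepDegree_eq_one _ _).2 hone
    rw [Scheme.residueFieldMap_comp] at hpi hfinite
    change (((V l).ι.residueFieldMap (⟨p l, hpV l⟩ : V l)).hom.comp
      ((pullback.snd f g).residueFieldMap (p l)).hom).IsPurelyInseparable at hpi
    change (((V l).ι.residueFieldMap (⟨p l, hpV l⟩ : V l)).hom.comp
      ((pullback.snd f g).residueFieldMap (p l)).hom).Finite at hfinite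
    let j := asIso ((V l).ι.residueFieldMap (⟨p l, hpV l⟩ : V l))
    have hsurj : Function.Surjective j.inv.hom := (ConcreteCategory.bijective_of_isIso j.inv).2
    have hjpi : j.inv.hom.IsPurelyInseparable := by
      letI := j.inv.hom.toAlgebra
      exact ⟨⟨RingHom.isIntegral_of_surjective _ hsurj⟩, fun z _ => hsurj z⟩
    have hcancel : j.inv.hom.comp (((V l).ι.residueFieldMap (⟨p l, hpV l⟩ : V l)).hom.comp
        ((pullback.snd f g).residueFieldMap (p l)).hom) = ((pullback.snd f g).residueFieldMap (p l)).hom :=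
      RingHom.ext fun z => ConcreteCategory.congr_hom j.hom_inv_id _
    refine ⟨hpV l, hVfin l, hps l, huniq l, ?_, ?_, hpf l, hVW l⟩
    · rw [← hcancel]; exact hpi.comp hjpi
    · rw [← hcancel]; exact (RingHom.Finite.of_surjective _ hsurj).comp hfinite
  · intro k k' h
    apply e.symm.injective
    set l := e.symm k
    set l' := e.symm k'
    apply Subtype.ext
    have hmem : l'.1 ∈ L (V l) v := mem_L_iff.2 ⟨l'.2.1.trans hv.symm, by
      change p l' ∈ V l
      rw [← show p l = p l' from h]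
      exact hpV l⟩
    rw [hVL l, Set.mem_singleton_iff] at hmem
    exact hmem.symm
  · intro w i hwu hwx
    haveI := hqf i
    haveI := hft i
    let D : (pullback f g).Opens := pullback.fst f g ⁻¹ᵁ W i
    have hwD : w ∈ D := show pullback.fst f g w ∈ W i from hwx ▸ hxW i
    haveI : LocallyQuasiFinite (D.ι ≫ pullback.snd f g) :=
      MorphismProperty.of_isPullback (P := @LocallyQuasiFinite)
        ((isPullback_morphismRestrict (pullback.fst f g) (W i)).paste_vert (IsPullback.of_hasPullback f g)) (hqf i)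
    obtain ⟨c, hc, hcw⟩ := exists_mem_fib_at (D.ι ≫ pullback.snd f g) v ⟨w, hwD⟩ hwu
    let l : T := ⟨c ≫ D.ι ≫ pullback.fst f g, by
      rw [Category.assoc, Category.assoc, pullback.condition, ← Category.assoc D.ι, ← Category.assoc]
      exact (congrArg (· ≫ g) hc).trans hv, i, by
      have : (c ≫ D.ι ≫ pullback.fst f g) (IsLocalRing.closedPoint Ω) =
          pullback.fst f g (D.ι (Weighting.pt c)) := by rw [← Scheme.Hom.comp_apply, ← pt_comp]; rfl
      rw [this, hcw]
      exact hwx⟩
    refine ⟨e l, ?_⟩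
    show w = p (e.symm (e l))
    rw [e.symm_apply_apply]
    have : P l = c ≫ D.ι := pullback.hom_ext (by rw [pullback.lift_fst, Category.assoc])
      (by rw [pullback.lift_snd, Category.assoc]; exact hc.symm)
    show w = Weighting.pt (P l)
    rw [this, pt_comp, hcw]
    rfl

end Groth.Agent.TwConst
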