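import Mathlib
import Groth.Agent.TwConst.Clopen

/-!
Descent of split étale morphisms along faithfully flat quasi-compact morphisms.
-/

set_option autoImplicit false
set_option linter.style.haveILetI false

universe u

open CategoryTheory AlgebraicGeometry Limits MorphismProperty TopologicalSpace

namespace Groth.Agent.TwConst

/-- The sheets of a split base change descend when their two pullbacks to `B ×_V B` agree. -/
theorem Split.descend {P V B : Scheme.{u}} (p : P ⟶ V) [Etale p] (g : B ⟶ V) [Surjective g] [Flat g]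
    [QuasiCompact g] (s : Split (pullback.snd p g))
    (h : ∀ i, pullback.fst g g ≫ s.σ i ≫ pullback.fst p g = pullback.snd g g ≫ s.σ i ≫ pullback.fst p g) :
    Nonempty (Split p) := by
  have key : ∀ i, ∃ τ : V ⟶ P, g ≫ τ = s.σ i ≫ pullback.fst p g ∧ τ ≫ p = 𝟙 V := by
    intro i
    obtain ⟨τ, hτ⟩ : ∃ τ : V ⟶ P, g ≫ τ = s.σ i ≫ pullback.fst p g :=
      ⟨EffectiveEpi.desc g (s.σ i ≫ pullback.fst p g) fun {Z} g₁ g₂ e => by
        have := congrArg (fun k => pullback.lift g₁ g₂ e ≫ k) (h i)
        rwa [pullback.lift_fst_assoc, pullback.lift_snd_assoc] at this, EffectiveEpi.fac _ _ _⟩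
    refine ⟨τ, hτ, ?_⟩
    rw [← cancel_epi g, reassoc_of% hτ, pullback.condition, ← Category.assoc, s.comp]
    simp
  choose τ hτ hτp using key
  have hlift : ∀ i b, pullback.fst p g (s.σ i b) = τ i (g b) := fun i b => by
    rw [← Scheme.Hom.comp_apply (s.σ i), ← hτ, Scheme.Hom.comp_apply]
  have hfp : ∀ i v, p (τ i v) = v := fun i v => by
    rw [← Scheme.Hom.comp_apply, hτp]
    rfl
  refine ⟨⟨s.I, τ, hτp, fun i => EtaleSections.isOpenImmersion_section p (τ i) (hτp i), fun z => ?_,
    fun i j hij => ?_⟩⟩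
  · obtain ⟨b, hb⟩ := g.surjective (p z)
    obtain ⟨w, hw, hw'⟩ := Scheme.Pullback.exists_preimage_pullback (f := p) (g := g) z b hb.symm
    obtain ⟨i, b', hb'⟩ := s.cover w
    refine ⟨i, g b', ?_⟩
    rw [← hlift, hb', hw]
  · rw [Set.disjoint_left]
    rintro _ ⟨v, rfl⟩ ⟨v', hv'⟩
    obtain rfl : v' = v := by rw [← hfp j v', hv', hfp]
    obtain ⟨b, hb⟩ := g.surjective v'
    haveI := EtaleSections.isOpenImmersion_section p (τ i) (hτp i)
    let w := V.fromSpecResidueField v'
    have hr : Set.range (w ≫ τ j) ⊆ Set.range (τ i) := by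
      rintro _ ⟨x, rfl⟩
      refine ⟨v', hv'.symm.trans ?_⟩
      rw [Scheme.Hom.comp_apply, Scheme.fromSpecResidueField_apply]
    have h1 := IsOpenImmersion.lift_fac (τ i) (w ≫ τ j) hr
    have h2 : IsOpenImmersion.lift (τ i) (w ≫ τ j) hr = w := by
      calc IsOpenImmersion.lift (τ i) (w ≫ τ j) hr
          = IsOpenImmersion.lift (τ i) (w ≫ τ j) hr ≫ τ i ≫ p := by rw [hτp, Category.comp_id]
        _ = w := by rw [reassoc_of% h1, hτp, Category.comp_id]
    rw [h2] at h1
    -- pull back to a point over `v'`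
    let k := B.fromSpecResidueField b
    have hk : Set.range (k ≫ g) ⊆ Set.range w := by
      rintro _ ⟨x, rfl⟩
      rw [Scheme.Hom.comp_apply, Scheme.fromSpecResidueField_apply, hb]
      exact ⟨IsLocalRing.closedPoint _, Scheme.fromSpecResidueField_apply _ _⟩
    have hfac : k ≫ g = Spec.map (g.residueFieldMap b) ≫ V.fromSpecResidueField (g b) :=
      (g.SpecMap_residueFieldMap_fromSpecResidueField b).symm
    subst hb
    have h4 : k ≫ s.σ i = k ≫ s.σ j := by
      apply pullback.hom_ext
      · rw [Category.assoc, Category.assoc, ← hτ, ← hτ, reassoc_of% hfac, reassoc_of% hfac]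
        exact congrArg _ h1
      · simp [s.comp]
    have h5 := congrArg (fun m => m (IsLocalRing.closedPoint (B.residueField b))) h4
    simp only [k, Scheme.Hom.comp_apply, Scheme.fromSpecResidueField_apply] at h5
    exact hij (s.eq_of_mem ⟨b, rfl⟩ ⟨b, h5.symm⟩)

end Groth.Agent.TwConst
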