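import Mathlib
import Groth.Agent.TwConst.Descend
import Groth.Agent.TwConst.BaseChange
import Groth.Agent.QFDom.Basic
import Groth.Agent.LqfRep.Ring

/-!
Twisted constant schemes for the fppf topology over a locally Noetherian base are quasi-isotrivial.
-/

set_option autoImplicit false
set_option linter.style.haveILetI false

universe u

open CategoryTheory AlgebraicGeometry Limits MorphismProperty TopologicalSpace
open scoped TensorProduct

namespace Groth.Agent.TwConst

variable {S : Scheme.{u}} (X : Over S)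

/-- Descent from the members trivialising a twisted constant scheme, fppf. -/
theorem of_fppf_twConst (hX : TwC.IsTwConst TwC.Topology.fppf X) (P : MorphismProperty Scheme.{u})
    [IsZariskiLocalAtTarget P] [P.DescendsAlong (@Surjective ⊓ @Flat ⊓ @QuasiCompact)]
    {Z : Scheme.{u}} (g : Z ⟶ S)
    (h : ∀ (T : Scheme.{u}) (f : T ⟶ S), Split (pullback.snd X.hom f) → P (pullback.snd g f)) : P g := by
  choose T f hf hfp hs hT using hX
  let F : (∐ T) ⟶ S := Sigma.desc f
  have hFf : Flat F := IsZariskiLocalAtSource.sigmaDesc (P := @Flat) hf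
  have hFp : LocallyOfFinitePresentation F := IsZariskiLocalAtSource.sigmaDesc (P := @LocallyOfFinitePresentation) hfp
  haveI : Surjective F := ⟨fun s => by
    obtain ⟨t, ht⟩ := hs s
    refine ⟨Sigma.ι T s t, ?_⟩
    rw [← Scheme.Hom.comp_apply, Sigma.ι_desc]
    exact ht⟩
  refine MorphismProperty.of_pullback_snd_of_descendsAlong
    (Q := @Surjective ⊓ @Flat ⊓ @LocallyOfFinitePresentation) (f := g) (g := F)
    ⟨⟨inferInstance, hFf⟩, hFp⟩ ?_
  rw [IsZariskiLocalAtTarget.iff_of_openCover (P := P) (sigmaOpenCover T)]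
  intro s
  rw [Scheme.Cover.pullbackHom, ← pullbackLeftPullbackSndIso_hom_snd g F _]
  refine (P.cancel_left_of_respectsIso _ _).mpr ?_
  change P (pullback.snd g (Sigma.ι T s ≫ F))
  rw [Sigma.ι_desc]
  obtain ⟨I, ⟨e⟩⟩ := hT s
  exact h _ _ (split_of_iso _ X I e).some

/-- The pullback square of a composite. -/
theorem isPullback_comp {Y B T : Scheme.{u}} (p : Y ⟶ S) (f : T ⟶ S) (b : B ⟶ T) :
    ∃ a : pullback p (b ≫ f) ⟶ pullback p f, a ≫ pullback.fst p f = pullback.fst p (b ≫ f) ∧
      IsPullback a (pullback.snd p (b ≫ f)) (pullback.snd p f) b := by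
  refine ⟨pullback.lift (pullback.fst p (b ≫ f)) (pullback.snd p (b ≫ f) ≫ b)
    (by rw [Category.assoc, pullback.condition]), pullback.lift_fst _ _ _, ?_⟩
  refine IsPullback.of_right (h₁₂ := pullback.fst p f) (v₁₃ := p) (h₂₂ := f) ?_ (pullback.lift_snd _ _ _)
    (IsPullback.of_hasPullback p f)
  rw [pullback.lift_fst]
  exact IsPullback.of_hasPullback p (b ≫ f)

/-- A finite flat quasi-section over an étale neighbourhood with one radicial point over the chosen point. -/
theorem exists_finite_model [IsLocallyNoetherian S] {T : Scheme.{u}} (f : T ⟶ S) [Flat f]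
    [LocallyOfFinitePresentation f] (t : T) :
    ∃ (A' B' : CommRingCat.{u}) (g : Spec B' ⟶ Spec A') (v : Spec A' ⟶ S) (b : Spec B' ⟶ T) (v₀ : Spec A')
      (b₀ : Spec B'), IsNoetherianRing A' ∧ Etale v ∧ v v₀ = f t ∧ IsFinite g ∧ Flat g ∧
      LocallyOfFinitePresentation g ∧ b ≫ f = g ≫ v ∧ g b₀ = v₀ ∧
      ∀ (K : Type u) [Field K] (k₁ k₂ : Spec (CommRingCat.of K) ⟶ Spec B'), k₁ ≫ g = k₂ ≫ g →
        g (k₁ (IsLocalRing.closedPoint K)) = v₀ → k₁ = k₂ ∧ k₁ (IsLocalRing.closedPoint K) = b₀ := by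
  obtain ⟨V, hV, hsV, -⟩ := exists_isAffineOpen_mem_and_subset (U := ⊤) (x := f t) trivial
  obtain ⟨W, hW, htW, hWV⟩ := exists_isAffineOpen_mem_and_subset (U := f ⁻¹ᵁ V) (x := t) hsV
  haveI hRn : IsNoetherianRing Γ(S, V) := IsLocallyNoetherian.component_noetherian ⟨V, hV⟩
  have hfl : (f.appLE V W hWV).hom.Flat := f.flat_appLE hV hW hWV
  have hfp : (f.appLE V W hWV).hom.FinitePresentation := f.finitePresentation_appLE hV hW hWV
  letI := (f.appLE V W hWV).hom.toAlgebra
  haveI : Module.Flat Γ(S, V) Γ(T, W) := hfl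
  haveI : Algebra.FinitePresentation Γ(S, V) Γ(T, W) := hfp
  obtain ⟨T', _, _, hqf, hfl', hfp', ⟨h⟩, Q, hQ, hQp⟩ :=
    QFDom.exists_dominating_at Γ(S, V) Γ(T, W) (hW.primeIdealOf ⟨t, htW⟩).asIdeal
  haveI := hQ
  haveI := hqf
  haveI := hfl'
  haveI := hfp'
  obtain ⟨A', _, _, hA', P, hP, e, he, P', hP', hP'o, hP'q, heP', hfin, huniq, hrad⟩ :=
    LqfRep.exists_etale_piece (A := Γ(S, V)) (B := T') Q
  haveI := hA'
  haveI := hfin
  haveI := hP
  haveI := hP'
  let B' := Localization.Away e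
  haveI : IsNoetherianRing A' := Algebra.FiniteType.isNoetherianRing Γ(S, V) A'
  haveI : Module.Flat (A' ⊗[Γ(S, V)] T') B' := IsLocalization.flat B' (Submonoid.powers e)
  haveI : Module.Flat A' B' := Module.Flat.trans A' (A' ⊗[Γ(S, V)] T') B'
  haveI : Algebra.FinitePresentation (A' ⊗[Γ(S, V)] T') B' := IsLocalization.Away.finitePresentation e
  haveI : Algebra.FinitePresentation A' B' := Algebra.FinitePresentation.trans A' (A' ⊗[Γ(S, V)] T') B'
  let g : Spec (CommRingCat.of B') ⟶ Spec (CommRingCat.of A') :=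
    Spec.map (CommRingCat.ofHom (algebraMap A' B'))
  let ψ : T' →+* B' := (algebraMap (A' ⊗[Γ(S, V)] T') B').comp Algebra.TensorProduct.includeRight.toRingHom
  let v : Spec (CommRingCat.of A') ⟶ S := Spec.map (CommRingCat.ofHom (algebraMap Γ(S, V) A')) ≫ hV.fromSpec
  let b : Spec (CommRingCat.of B') ⟶ T :=
    Spec.map (CommRingCat.ofHom ψ) ≫ Spec.map (CommRingCat.ofHom h.toRingHom) ≫ hW.fromSpec
  haveI : Etale v := by
    haveI : Etale (Spec.map (CommRingCat.ofHom (algebraMap Γ(S, V) A'))) := by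
      rw [HasRingHomProperty.Spec_iff (P := @Etale)]
      exact RingHom.etale_algebraMap.2 hA'
    exact inferInstanceAs (Etale (_ ≫ hV.fromSpec))
  have hb : b ≫ f = g ≫ v := by
    simp only [b, g, v, Category.assoc, ← IsAffineOpen.SpecMap_appLE_fromSpec f hV hW hWV]
    simp only [← Category.assoc, ← Spec.map_comp]
    congr 2
    refine CommRingCat.hom_ext (RingHom.ext fun r => ?_)
    change algebraMap (A' ⊗[Γ(S, V)] T') B' (Algebra.TensorProduct.includeRight (h (algebraMap Γ(S, V) Γ(T, W) r))) =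
      algebraMap A' B' (algebraMap Γ(S, V) A' r)
    rw [AlgHom.commutes, AlgHom.commutes, IsScalarTower.algebraMap_apply A' (A' ⊗[Γ(S, V)] T') B',
      IsScalarTower.algebraMap_apply Γ(S, V) A' (A' ⊗[Γ(S, V)] T')]
  obtain ⟨b₀, hb₀⟩ : (⟨P', hP'⟩ : PrimeSpectrum (A' ⊗[Γ(S, V)] T')) ∈
      Set.range (PrimeSpectrum.comap (algebraMap (A' ⊗[Γ(S, V)] T') B')) := by
    rw [PrimeSpectrum.localization_away_comap_range B' e]
    exact heP'
  have hb₀' : b₀.asIdeal.comap (algebraMap (A' ⊗[Γ(S, V)] T') B') = P' := congrArg PrimeSpectrum.asIdeal hb₀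
  have hgb₀ : g b₀ = (⟨P, hP⟩ : PrimeSpectrum A') := by
    refine PrimeSpectrum.ext ?_
    change b₀.asIdeal.comap (algebraMap A' B') = P
    rw [IsScalarTower.algebraMap_eq A' (A' ⊗[Γ(S, V)] T') B', ← Ideal.comap_comap, hb₀']
    exact hP'o.over.symm
  have hv₀ : v (⟨P, hP⟩ : PrimeSpectrum A') = f t := by
    have hcomap : P.comap (algebraMap Γ(S, V) A') = (hV.primeIdealOf ⟨f t, hsV⟩).asIdeal := by
      have h1 := congrArg PrimeSpectrum.asIdeal
        (IsAffineOpen.comap_primeIdealOf_appLE V hV W hW hWV htW)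
      refine Eq.trans ?_ h1
      change _ = (hW.primeIdealOf ⟨t, htW⟩).asIdeal.comap (algebraMap Γ(S, V) Γ(T, W))
      rw [← hQp, ← hP'q, Ideal.comap_comap, hP'o.over, Ideal.under_def, Ideal.comap_comap]
      congr 1
      refine RingHom.ext fun r => ?_
      change algebraMap A' (A' ⊗[Γ(S, V)] T') (algebraMap Γ(S, V) A' r) = Algebra.TensorProduct.includeRight (algebraMap Γ(S, V) T' r)
      rw [AlgHom.commutes, ← IsScalarTower.algebraMap_apply]
    change hV.fromSpec (Spec.map (CommRingCat.ofHom (algebraMap Γ(S, V) A')) ⟨P, hP⟩) = f t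
    refine Eq.trans (congrArg hV.fromSpec (PrimeSpectrum.ext hcomap)) ?_
    exact hV.fromSpec_primeIdealOf _
  refine ⟨CommRingCat.of A', CommRingCat.of B', g, v, b, ⟨P, hP⟩, b₀, inferInstance, inferInstance, hv₀,
    (IsFinite.SpecMap_iff _).2 (RingHom.finite_algebraMap.2 inferInstance),
    Flat.SpecMap_iff.2 (RingHom.flat_algebraMap_iff.2 inferInstance),
    (LocallyOfFinitePresentation.SpecMap_iff _).2 (RingHom.finitePresentation_algebraMap.2 inferInstance),
    hb, hgb₀, fun K _ k₁ k₂ hk hk₁ => ?_⟩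
  obtain ⟨α, rfl⟩ := Spec.map_surjective k₁
  obtain ⟨β, rfl⟩ := Spec.map_surjective k₂
  have hpt : ∀ γ : CommRingCat.of B' ⟶ CommRingCat.of K,
      g (Spec.map γ (IsLocalRing.closedPoint K)) = (⟨P, hP⟩ : PrimeSpectrum A') →
      Spec.map γ (IsLocalRing.closedPoint K) = b₀ ∧
        RingHom.ker (γ.hom.comp (algebraMap (A' ⊗[Γ(S, V)] T') B')) = P' := by
    intro γ hγ
    set c : PrimeSpectrum B' := Spec.map γ (IsLocalRing.closedPoint K)
    have h1 : c.asIdeal.comap (algebraMap (A' ⊗[Γ(S, V)] T') B') = P' := by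
      refine huniq _ (Ideal.comap_isPrime _ _) ⟨?_⟩ fun hmem => ?_
      · rw [Ideal.under_def, Ideal.comap_comap, ← IsScalarTower.algebraMap_eq]
        exact (congrArg PrimeSpectrum.asIdeal hγ).symm
      · exact c.isPrime.ne_top (Ideal.eq_top_of_isUnit_mem _ hmem (IsLocalization.Away.algebraMap_isUnit e))
    refine ⟨PrimeSpectrum.localization_comap_injective B' (Submonoid.powers e)
      ((PrimeSpectrum.ext h1).trans hb₀.symm), ?_⟩
    rw [← h1, ← RingHom.comap_ker]
    congr 1
    change RingHom.ker γ.hom = (IsLocalRing.maximalIdeal K).comap γ.hom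
    rw [IsLocalRing.maximalIdeal_eq_bot, ← RingHom.ker_eq_comap_bot]
  have hk₂ : g (Spec.map β (IsLocalRing.closedPoint K)) = (⟨P, hP⟩ : PrimeSpectrum A') := by
    rw [← Scheme.Hom.comp_apply, ← hk, Scheme.Hom.comp_apply, hk₁]
  refine ⟨congrArg Spec.map (CommRingCat.hom_ext (IsLocalization.ringHom_ext (Submonoid.powers e) ?_)),
    (hpt α hk₁).1⟩
  refine hrad K _ _ ?_ (hpt α hk₁).2 (hpt β hk₂).2
  rw [← Spec.map_comp, ← Spec.map_comp] at hk
  have h2 := congrArg CommRingCat.Hom.hom (Spec.map_injective hk)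
  rw [RingHom.comp_assoc, RingHom.comp_assoc, ← IsScalarTower.algebraMap_eq]
  exact h2

/-- Twisted constant for fppf implies quasi-isotrivial over a locally Noetherian base. -/
theorem isTwConst_etale_of_fppf [IsLocallyNoetherian S] (hX : TwC.IsTwConst TwC.Topology.fppf X) :
    TwC.IsTwConst TwC.Topology.etale X := by
  haveI hXe : Etale X.hom := of_fppf_twConst X hX @Etale X.hom fun _ _ s => s.etale
  haveI hXs : IsSeparated X.hom := of_fppf_twConst X hX @IsSeparated X.hom fun _ _ s => s.isSeparated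
  intro s₀
  obtain ⟨T, f, hf, hfp, ⟨t, ht⟩, I, ⟨e⟩⟩ := hX s₀
  haveI := hf
  haveI := hfp
  obtain ⟨sT⟩ := split_of_iso f X I e
  obtain ⟨A', B', g, v, b, v₀, b₀, hA', hv, hv₀, hgf, hgfl, hglfp, hbg, hgb₀, hrad⟩ := exists_finite_model f t
  haveI := hA'
  haveI := hv
  haveI := hgf
  haveI := hgfl
  haveI := hglfp
  -- split over `Spec B'`
  obtain ⟨a, -, ha⟩ := isPullback_comp X.hom f b
  obtain ⟨sB⟩ := sT.nonempty_of_isPullback ha
  obtain ⟨sg⟩ : Nonempty (Split (pullback.snd X.hom (g ≫ v))) := hbg ▸ ⟨sB⟩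
  -- the component of the diagonal point
  let E := pullback g g
  let Δ : Spec B' ⟶ E := pullback.diagonal g
  haveI : IsLocallyNoetherian (Spec A') := inferInstance
  haveI : IsLocallyNoetherian (pullback g g) :=
    LocallyOfFiniteType.isLocallyNoetherian (pullback.fst g g ≫ g)
  haveI : CompactSpace ↥(pullback g g) := (quasiCompact_iff_compactSpace (pullback.fst g g ≫ g)).1 inferInstance
  haveI : IsNoetherian (pullback g g) := ⟨⟩
  let z : ↥(pullback g g) := pullback.diagonal g b₀
  have hcomp : ∀ w w' : ↥(pullback g g), w ⤳ w' → (w ∈ connectedComponent z ↔ w' ∈ connectedComponent z) := by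
    intro w w' h
    have h1 : connectedComponent w = connectedComponent w' :=
      connectedComponent_eq ((isPreconnected_singleton.closure).subset_connectedComponent (subset_closure rfl)
        h.mem_closure) |>.symm ▸ rfl
    simp only [← connectedComponent_eq_iff_mem, h1]
  have hNc : IsClosed ((connectedComponent z)ᶜ : Set ↥(pullback g g)) :=
    isClosed_of_stable TopologicalSpace.NoetherianSpace.finite_irreducibleComponents
      fun w w' h => not_congr (hcomp w w' h)
  let p : pullback g g ⟶ Spec A' := pullback.fst g g ≫ g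
  have hpN : IsClosed (p '' (connectedComponent z)ᶜ) := p.isClosedMap _ hNc
  have hv₀N : v₀ ∉ p '' (connectedComponent z)ᶜ := by
    rintro ⟨w, hw, hwv⟩
    refine hw ?_
    let k := (pullback g g).fromSpecResidueField w
    have hw1 : (k ≫ pullback.fst g g) (IsLocalRing.closedPoint _) = pullback.fst g g w := by
      rw [Scheme.Hom.comp_apply, Scheme.fromSpecResidueField_apply]
    obtain ⟨hk, hk₁⟩ := hrad ((pullback g g).residueField w) (k ≫ pullback.fst g g) (k ≫ pullback.snd g g)
      (by simp only [Category.assoc, pullback.condition]) (by rw [hw1]; exact hwv)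
    have hkΔ : (k ≫ pullback.fst g g) ≫ pullback.diagonal g = k := by
      apply pullback.hom_ext
      · rw [Category.assoc, pullback.diagonal_fst, Category.comp_id]
      · rw [Category.assoc, pullback.diagonal_snd, Category.comp_id, hk]
    have : w = z := by
      have := congrArg (fun m => m (IsLocalRing.closedPoint _)) hkΔ
      simp only [Scheme.Hom.comp_apply] at this hk₁
      rw [hk₁] at this
      exact (this.trans (Scheme.fromSpecResidueField_apply _ _)).symm
    rw [this]
    exact mem_connectedComponent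
  let V' : (Spec A').Opens :=
    ⟨(p '' (connectedComponent z)ᶜ)ᶜ ∩ Set.range g, hpN.isOpen_compl.inter g.isOpenMap.isOpen_range⟩
  have hv₀V : v₀ ∈ V' := ⟨hv₀N, ⟨b₀, hgb₀⟩⟩
  let gV := g ∣_ V'
  haveI : Surjective gV := ⟨fun y => by
    obtain ⟨x, hx⟩ := y.2.2
    refine ⟨⟨x, show g x ∈ V' from hx.symm ▸ y.2⟩, V'.ι.injective ?_⟩
    rw [← Scheme.Hom.comp_apply, morphismRestrict_ι, Scheme.Hom.comp_apply]
    exact hx⟩
  haveI : Flat gV := IsZariskiLocalAtTarget.restrict hgfl V'
  haveI : IsFinite gV := IsZariskiLocalAtTarget.restrict hgf V'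
  have hgV : gV ≫ V'.ι = (g ⁻¹ᵁ V').ι ≫ g := morphismRestrict_ι g V'
  let v' := V'.ι ≫ v
  obtain ⟨a', ha'₁, ha'⟩ := isPullback_comp X.hom (g ≫ v) (g ⁻¹ᵁ V').ι
  obtain ⟨s', hs'⟩ := sg.exists_of_isPullback ha'
  have heq : (g ⁻¹ᵁ V').ι ≫ g ≫ v = gV ≫ v' := by
    rw [← Category.assoc, ← hgV, Category.assoc]
  -- the split base change of `pullback.snd X.hom v'`
  let c : pullback (pullback.snd X.hom v') gV ⟶ pullback X.hom ((g ⁻¹ᵁ V').ι ≫ g ≫ v) :=
    pullback.lift (pullback.fst _ _ ≫ pullback.fst X.hom v') (pullback.snd _ _)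
      (by rw [heq, Category.assoc, pullback.condition, pullback.condition_assoc])
  have hc : IsPullback c (pullback.snd (pullback.snd X.hom v') gV)
      (pullback.snd X.hom ((g ⁻¹ᵁ V').ι ≫ g ≫ v)) (𝟙 _) := by
    refine IsPullback.of_right (h₁₂ := pullback.fst X.hom ((g ⁻¹ᵁ V').ι ≫ g ≫ v)) (v₁₃ := X.hom)
      (h₂₂ := (g ⁻¹ᵁ V').ι ≫ g ≫ v) ?_ ((pullback.lift_snd _ _ _).trans (Category.comp_id _).symm)
      (IsPullback.of_hasPullback _ _)
    rw [pullback.lift_fst, Category.id_comp, heq]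
    exact (IsPullback.of_hasPullback _ _).paste_horiz (IsPullback.of_hasPullback X.hom v')
  obtain ⟨s'', hs''⟩ := s'.exists_of_isPullback hc
  have hfst : ∀ j, ∃ i, s''.σ j ≫ pullback.fst (pullback.snd X.hom v') gV ≫ pullback.fst X.hom v' =
      (g ⁻¹ᵁ V').ι ≫ sg.σ i ≫ pullback.fst X.hom (g ≫ v) := by
    intro j
    obtain ⟨i', hi'⟩ := hs'' j
    obtain ⟨i, hi⟩ := hs' i'
    refine ⟨i, ?_⟩
    rw [show pullback.fst (pullback.snd X.hom v') gV ≫ pullback.fst X.hom v' =
      c ≫ pullback.fst X.hom _ from (pullback.lift_fst _ _ _).symm, reassoc_of% hi',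
      ← ha'₁, reassoc_of% hi]
  obtain ⟨sp⟩ := Split.descend (pullback.snd X.hom v') gV s'' fun j => by
    obtain ⟨i, hi⟩ := hfst j
    apply pullback.hom_ext
    · let u := sg.σ i ≫ pullback.fst X.hom (g ≫ v)
      let ψ : pullback gV gV ⟶ pullback g g :=
        pullback.map gV gV g g (g ⁻¹ᵁ V').ι (g ⁻¹ᵁ V').ι V'.ι hgV hgV
      have huv : (pullback.fst g g ≫ u) ≫ X.hom = (pullback.snd g g ≫ u) ≫ X.hom := by
        simp only [u, Category.assoc]
        rw [pullback.condition, ← Category.assoc (sg.σ i), sg.comp, Category.id_comp,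
          pullback.condition_assoc]
      have hclop : IsClopen (EtaleSections.eqLocus X.hom (pullback.fst g g ≫ u) (pullback.snd g g ≫ u) huv) :=
        ⟨EtaleSections.isClosed_eqLocus _ _ _ huv, EtaleSections.isOpen_eqLocus _ _ _ huv⟩
      have hz : z ∈ EtaleSections.eqLocus X.hom (pullback.fst g g ≫ u) (pullback.snd g g ≫ u) huv :=
        EtaleSections.range_subset_eqLocus X.hom _ _ huv (pullback.diagonal g)
          (by rw [pullback.diagonal_fst_assoc, pullback.diagonal_snd_assoc]) ⟨b₀, rfl⟩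
      have hψ : Set.range ψ ⊆ EtaleSections.eqLocus X.hom (pullback.fst g g ≫ u) (pullback.snd g g ≫ u) huv := by
        rintro _ ⟨x, rfl⟩
        refine hclop.connectedComponent_subset hz (by_contra fun hx => ?_)
        have h1 : p (ψ x) ∈ V' := by
          have h2 : ψ ≫ p = (pullback.fst gV gV ≫ gV) ≫ V'.ι := by
            rw [Category.assoc, hgV]
            exact (pullback.lift_fst_assoc _ _ _ g).trans (Category.assoc _ _ _)
          rw [← Scheme.Hom.comp_apply, h2, Scheme.Hom.comp_apply]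
          exact ((pullback.fst gV gV ≫ gV) x).2
        exact h1.1 ⟨_, hx, rfl⟩
      have h3 := EtaleSections.eq_of_range_subset_eqLocus X.hom _ _ huv ψ hψ
      simp only [Category.assoc]
      rw [hi]
      calc pullback.fst gV gV ≫ (g ⁻¹ᵁ V').ι ≫ u = ψ ≫ pullback.fst g g ≫ u :=
            ((pullback.lift_fst_assoc _ _ _ u).trans (Category.assoc _ _ _)).symm
        _ = ψ ≫ pullback.snd g g ≫ u := h3
        _ = pullback.snd gV gV ≫ (g ⁻¹ᵁ V').ι ≫ u :=
            (pullback.lift_snd_assoc _ _ _ u).trans (Category.assoc _ _ _)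
    · simp only [Category.assoc]
      rw [pullback.condition, ← Category.assoc (s''.σ j), s''.comp, Category.id_comp]
      exact pullback.condition
  refine ⟨V', v', inferInstance, ⟨⟨v₀, hv₀V⟩, ?_⟩, sp.I, iso_of_split v' X sp⟩
  change v v₀ = s₀
  rw [hv₀, ht]

end Groth.Agent.TwConst
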