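import Groth.Agent.TwConst.UnramifiedNbhd
import Groth.Agent.S0098

/-!
Splitting of étale points by isomorphisms, étale-locally.
-/

set_option autoImplicit false
set_option linter.style.haveILetI false

universe u

open CategoryTheory AlgebraicGeometry Limits

namespace Groth.Agent.TwConst

variable {X S : Scheme.{u}}

theorem etale_piece {U : Scheme.{u}} (f : X ⟶ S) (g : U ⟶ S) (W₀ : X.Opens) [Etale (W₀.ι ≫ f)]
    (V : (pullback f g).Opens) (hV : V ≤ pullback.fst f g ⁻¹ᵁ W₀) : Etale (V.ι ≫ pullback.snd f g) := by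
  haveI : Etale ((pullback.fst f g ⁻¹ᵁ W₀).ι ≫ pullback.snd f g) :=
    MorphismProperty.of_isPullback (P := @Etale)
      ((isPullback_morphismRestrict (pullback.fst f g) W₀).paste_vert (IsPullback.of_hasPullback f g)) inferInstance
  rw [← Scheme.homOfLE_ι _ hV, Category.assoc]
  infer_instance

/-- Splitting of étale points by isomorphisms, étale-locally. -/
theorem exists_etale_split (f : X ⟶ S) (s : S) {ι : Type} [Finite ι] (x : ι → X) (hs : ∀ i, f (x i) = s)
    (hx : ∀ i, ∃ W : X.Opens, x i ∈ W ∧ Etale (W.ι ≫ f)) :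
    ∃ (U : Scheme.{u}) (g : U ⟶ S) (u : U), Etale g ∧ g u = s ∧
      ∃ (K : Type) (_ : Finite K) (lab : K → ι) (V : K → (pullback f g).Opens) (v : K → ↥(pullback f g)),
        (∀ k, v k ∈ V k ∧ IsIso ((V k).ι ≫ pullback.snd f g) ∧ pullback.snd f g (v k) = u ∧
          (∀ w : ↥(pullback f g), w ∈ V k → pullback.snd f g w = u → w = v k) ∧
          pullback.fst f g (v k) = x (lab k)) ∧
        Function.Injective v ∧
        (∀ (w : ↥(pullback f g)) (i : ι), pullback.snd f g w = u → pullback.fst f g w = x i →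
          ∃ k, w = v k) ∧
        (IsSeparated f → (∀ k, IsClosed (V k : Set ↥(pullback f g))) ∧ ∀ k k', k ≠ k' → Disjoint (V k) (V k')) := by
  choose W hxW het using hx
  refine exists_split_nbhd f s x hs W hxW (fun i => by haveI := het i; infer_instance) (fun i => by
    haveI := het i; exact locallyQuasiFinite_of_formallyUnramified _) (MorphismProperty.isomorphisms Scheme.{u}) ?_
  intro U g i V v hv hg hfin huniq hpi hle
  haveI := hfin
  haveI := het i
  haveI := etale_piece f g (W i) V hle
  obtain ⟨-, hsurj⟩ := residueFieldMap_piece_surjective f g (W i) V hle v hv hpi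
  exact S0098.result (V.ι ≫ pullback.snd f g) _ ⟨v, hv⟩
    (Set.eq_singleton_iff_unique_mem.2 ⟨rfl, fun a ha => Subtype.ext (huniq a.1 a.2 ha)⟩) hsurj

end Groth.Agent.TwConst
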